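import Groth.Agent.H11Ample.Ample
import Groth.Agent.H11Ample.Global
import Groth.Agent.H11Ample.Tensor
import Groth.Agent.H10Coh.TensorBasics
import Groth.Agent.H10Coh.FinType

/-!
# Sections of consecutive powers of an ample module nonvanishing at finitely many points
-/

set_option autoImplicit false
set_option linter.style.haveILetI false

noncomputable section

universe u

open CategoryTheory CategoryTheory.Limits AlgebraicGeometry Opposite TopologicalSpace
open Groth.Agent.H11Tilde Groth.Agent.H11Ample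

namespace Groth.Agent.H25Euler

variable {X : Scheme.{u}} {L : X.Modules}

/-- A section over an affine open generating at finitely many incomparable points. -/
theorem exists_gen_affine (hL : PicF.IsInvertible L) {V : X.Opens} (hV : IsAffineOpen V) {Z : Set X}
    (hZ : Z.Finite) (hZV : Z ⊆ V) (hanti : ∀ z ∈ Z, ∀ z' ∈ Z, z ⤳ z' → z = z') :
    ∃ e : Γ(L, V), ∀ z ∈ Z, ∃ (W : X.Opens) (hW : W ≤ V), z ∈ W ∧
      IsGen L (L.presheaf.map (homOfLE hW).op e) := by
  classical
  haveI : L.IsQuasicoherent := (H11Ample.isCoh_of_isInvertible hL).1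
  haveI : Fintype Z := hZ.fintype
  have hloc : ∀ w : Z, ∃ (c : Γ(X, V)) (g : Γ(L, X.basicOpen c)),
      w.1 ∈ X.basicOpen c ∧ IsGen L g ∧ ∀ v : Z, v ≠ w → v.1 ∉ X.basicOpen c := by
    intro w
    obtain ⟨U, g, hwU, hg⟩ := exists_gen hL w.1
    let O : X.Opens := U ⊓ V ⊓ ⟨⋂ v ∈ {v : Z | v ≠ w}, (closure {v.1})ᶜ,
      Set.Finite.isOpen_biInter (Set.toFinite _) fun v _ => isClosed_closure.isOpen_compl⟩
    have hwO : w.1 ∈ O := ⟨⟨hwU, hZV w.2⟩, Set.mem_iInter₂.2 fun v hv hm =>
      hv (Subtype.ext (hanti v.1 v.2 w.1 w.2 (specializes_iff_mem_closure.2 hm)))⟩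
    obtain ⟨c, hc, hwc⟩ := hV.exists_basicOpen_le ⟨w.1, hwO⟩ hwO.1.2
    have hcU : X.basicOpen c ≤ U := fun y hy => (hc hy).1.1
    exact ⟨c, _, hwc, hg.res hcU, fun v hv hvc => Set.mem_iInter₂.1 (hc hvc).2 v hv (subset_closure rfl)⟩
  choose c g hwc hg hother using hloc
  choose n u hu using fun w => H10Coh.exists_pow_smul_eq_res L hV (c w) (g w)
  let e : Γ(L, V) := ∑ w, c w • u w
  refine ⟨e, fun z hz => ?_⟩
  let w : Z := ⟨z, hz⟩
  have hle : X.basicOpen (c w) ≤ V := X.basicOpen_le _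
  choose b hb using fun v => exists_coeff (hg w) (L.presheaf.map (homOfLE hle).op (u v))
  let a : Γ(X, X.basicOpen (c w)) := ∑ v, X.presheaf.map (homOfLE hle).op (c v) * b v
  have hea : L.presheaf.map (homOfLE hle).op e = a • g w := by
    refine (map_sum _ _ _).trans ?_
    rw [Finset.sum_smul]
    refine Finset.sum_congr rfl fun v _ => ?_
    rw [Scheme.Modules.map_smul, hb, smul_smul]
  have hbw : IsUnit (b w) := by
    have h1 : b w • g w = X.presheaf.map (homOfLE hle).op (c w ^ n w) • g w := (hb w).symm.trans (hu w)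
    have h2 := ((hg w).bijective le_rfl).1 (a₁ := b w) (a₂ := X.presheaf.map (homOfLE hle).op (c w ^ n w))
      (by beta_reduce; rw [H10Coh.mres_self]; exact h1)
    rw [h2, map_pow]
    exact (X.toRingedSpace.isUnit_res_basicOpen (c w)).pow _
  have hza : z ∈ X.basicOpen a := by
    rw [X.mem_basicOpen a z (hwc w), map_sum, ← Finset.add_sum_erase _ _ (Finset.mem_univ w)]
    have h1 : IsUnit (X.presheaf.germ _ z (hwc w) (X.presheaf.map (homOfLE hle).op (c w) * b w)) :=
      ((X.toRingedSpace.isUnit_res_basicOpen (c w)).mul hbw).map _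
    have h2 : ∑ v ∈ Finset.univ.erase w, X.presheaf.germ _ z (hwc w) (X.presheaf.map (homOfLE hle).op (c v) * b v)
        ∈ IsLocalRing.maximalIdeal (X.presheaf.stalk z) := by
      refine Ideal.sum_mem _ fun v hv => ?_
      rw [map_mul]
      refine Ideal.mul_mem_right _ _ ((IsLocalRing.mem_maximalIdeal _).2 fun hu' => ?_)
      rw [TopCat.Presheaf.germ_res_apply] at hu'
      exact hother v w (Finset.ne_of_mem_erase hv).symm ((X.mem_basicOpen _ z (hle (hwc w))).2 hu')
    by_contra hne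
    refine (IsLocalRing.mem_maximalIdeal _).1 ?_ h1
    have h3 := Ideal.sub_mem _ ((IsLocalRing.mem_maximalIdeal _).2 hne) h2
    rwa [add_sub_cancel_right] at h3
  refine ⟨X.basicOpen a, (X.basicOpen_le a).trans hle, hza, ?_⟩
  have h := isGen_basicOpen (hg w) a
  rwa [← hea, H10Coh.mres_mres] at h

/-- Sections of two consecutive powers generating at finitely many incomparable points. -/
theorem exists_consecutive [CompactSpace X] [QuasiSeparatedSpace X] (hA : CohB1.IsAmple L) {Z : Set X}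
    (hZ : Z.Finite) (hanti : ∀ z ∈ Z, ∀ z' ∈ Z, z ⤳ z' → z = z') :
    ∃ (a : ℕ) (σ : Γ(CohB1.tensorPow L a, ⊤)) (τ : Γ(CohB1.tensorPow L (a + 1), ⊤)),
      0 < a ∧ Z ⊆ gen (CohB1.tensorPow L a) σ ∧ Z ⊆ gen (CohB1.tensorPow L (a + 1)) τ := by
  have hL : PicF.IsInvertible L := hA.1
  obtain ⟨k, s, hk, hZs, -, hV⟩ := exists_affine_gen_nhd_finite hA hZ (U := ⊤) (fun _ _ => trivial)
  let V := gen (CohB1.tensorPow L k) s
  obtain ⟨e, he⟩ := exists_gen_affine hL hV hZ hZs hanti
  obtain ⟨N, hN⟩ := exists_extend (F := Coh.structureModule X) hL H10Coh.isQuasicoherent_unit k 1 s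
    (tm (one V) (spow e 1))
  obtain ⟨S, hS⟩ := hN (N + 1) (Nat.le_succ N)
  obtain ⟨φ, -⟩ := exists_iso_mul hL k (N + 1)
  obtain ⟨σ, hσ⟩ := exists_section_of_eq (mul_comm k (N + 1)) (φ.hom.app ⊤ (spow s (N + 1)))
  have hgσ : gen (CohB1.tensorPow L ((N + 1) * k)) σ = V := by
    rw [hσ, gen_iso, gen_spow (isInvertible_tensorPow hL k) s (N + 1) N.succ_pos]
  let ψ := H10Coh.Tw.leftUnitIso (CohB1.tensorPow L (1 + (N + 1) * k))
  obtain ⟨τ, hτ⟩ := exists_section_of_eq (add_comm 1 ((N + 1) * k)) (ψ.hom.app ⊤ S)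
  refine ⟨(N + 1) * k, σ, τ, by positivity, hZs.trans hgσ.ge, fun z hz => ?_⟩
  rw [hτ, gen_iso]
  obtain ⟨W, hW, hzW, hWg⟩ := he z hz
  obtain ⟨c, hc⟩ := exists_coeff (isGen_spow hWg k) ((CohB1.tensorPow L k).presheaf.map (homOfLE (le_top : W ≤ ⊤)).op s)
  have hzc : z ∈ X.basicOpen c := (gen_inf_eq_basicOpen (isGen_spow hWg k) s c hc).le ⟨hZs hz, hzW⟩
  have hcW : X.basicOpen c ≤ W := X.basicOpen_le c
  let W' := X.basicOpen c
  let c' : Γ(X, W') := X.presheaf.map (homOfLE hcW).op c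
  have he' : IsGen L (L.presheaf.map (homOfLE (hcW.trans hW)).op e) := by
    have h := hWg.res hcW
    rwa [H10Coh.mres_mres] at h
  have hcu : IsUnit c' := X.toRingedSpace.isUnit_res_basicOpen c
  have h := hS W' (hcW.trans hW) (L.presheaf.map (homOfLE (hcW.trans hW)).op e) (one W') c' he'
    (by rw [tm_res, one_res, spow_res])
    (by
      have h1 := congrArg (fun t => (CohB1.tensorPow L k).presheaf.map (homOfLE hcW).op t) hc
      beta_reduce at h1
      rw [H10Coh.mres_mres, Scheme.Modules.map_smul, spow_res, H10Coh.mres_mres] at h1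
      exact h1)
  refine mem_gen_of_isGen (W := W') ?_ hzc
  rw [h]
  refine isGen_tm ?_ (isGen_spow he' _)
  have h2 := isGen_res (isGen_one W') le_rfl (hcu.pow (N + 1))
  rwa [one_res] at h2

end Groth.Agent.H25Euler
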