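import Groth.Agent.H25Euler.Degree
import Groth.Agent.H25Euler.Sections
import Mathlib.NumberTheory.BernoulliPolynomials

/-!
# Existence of Hilbert polynomials with respect to an ample module
-/

set_option autoImplicit false
set_option linter.style.haveILetI false
universe u

open CategoryTheory CategoryTheory.Limits AlgebraicGeometry Opposite TopologicalSpace
open Groth.Agent

namespace Groth.Agent.H25Euler

/-- Agreement with a polynomial at all natural numbers. -/
def IsPolyFun (f : ℕ → ℤ) : Prop := ∃ P : Polynomial ℚ, ∀ m : ℕ, (f m : ℚ) = P.eval (m : ℚ)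

theorem exists_antidiff (R : Polynomial ℚ) :
    ∃ S : Polynomial ℚ, ∀ x : ℚ, S.eval (x + 1) - S.eval x = R.eval x := by
  induction R using Polynomial.induction_on' with
  | add p q hp hq =>
    obtain ⟨S, hS⟩ := hp
    obtain ⟨T, hT⟩ := hq
    exact ⟨S + T, fun x => by simp only [Polynomial.eval_add]; linarith [hS x, hT x]⟩
  | monomial n a =>
    refine ⟨Polynomial.C (a / (n + 1)) * Polynomial.bernoulli (n + 1), fun x => ?_⟩
    rw [add_comm x 1]
    simp only [Polynomial.eval_mul, Polynomial.eval_C, Polynomial.bernoulli_eval_one_add, Polynomial.eval_monomial,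
      Nat.add_sub_cancel]
    push_cast
    field_simp
    ring

/-- A function whose differences with two consecutive steps are polynomial is polynomial. -/
theorem isPolyFun_of_steps (f : ℕ → ℤ) (a : ℕ) (h₁ : IsPolyFun fun m => f (m + a) - f m)
    (h₂ : IsPolyFun fun m => f (m + (a + 1)) - f m) : IsPolyFun f := by
  obtain ⟨P, hP⟩ := h₁
  obtain ⟨Q, hQ⟩ := h₂
  obtain ⟨S, hS⟩ := exists_antidiff (Q - P)
  let c : ℚ := (f a : ℚ) - S.eval 0
  have hsucc : ∀ m : ℕ, (f (m + a) : ℚ) = S.eval (m : ℚ) + c := by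
    intro m
    induction m with
    | zero => simp [c]
    | succ m ih =>
      have h1 := hP m
      have h2 := hQ m
      have h3 := hS (m : ℚ)
      simp only [Int.cast_sub, Polynomial.eval_sub] at h1 h2 h3
      rw [show m + 1 + a = m + (a + 1) by omega]
      push_cast
      linarith
  refine ⟨S + Polynomial.C c - P, fun m => ?_⟩
  have h1 := hP m
  simp only [Int.cast_sub] at h1
  simp only [Polynomial.eval_sub, Polynomial.eval_add, Polynomial.eval_C, ← hsucc, ← h1]
  ring

theorem IsPolyFun.sub {f g : ℕ → ℤ} (hf : IsPolyFun f) (hg : IsPolyFun g) : IsPolyFun fun m => f m - g m := by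
  obtain ⟨P, hP⟩ := hf
  obtain ⟨Q, hQ⟩ := hg
  exact ⟨P - Q, fun m => by simp [← hP, ← hQ]⟩

/-- Incomparable generic points. -/
theorem exists_finite_generizing_antichain (Y : Type*) [TopologicalSpace Y] [NoetherianSpace Y] [QuasiSober Y]
    [T0Space Y] :
    ∃ Z : Set Y, Z.Finite ∧ (∀ y : Y, ∃ η ∈ Z, η ⤳ y) ∧ ∀ z ∈ Z, ∀ z' ∈ Z, z ⤳ z' → z = z' := by
  refine ⟨Set.range fun C : irreducibleComponents Y => C.2.1.genericPoint, ?_, fun y => ?_, ?_⟩
  · haveI : Finite (irreducibleComponents Y) := NoetherianSpace.finite_irreducibleComponents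
    exact Set.finite_range _
  · refine ⟨_, ⟨⟨irreducibleComponent y, irreducibleComponent_mem_irreducibleComponents y⟩, rfl⟩, ?_⟩
    have hg := (isIrreducible_irreducibleComponent (x := y)).isGenericPoint_genericPoint_closure
    rw [isClosed_irreducibleComponent.closure_eq] at hg
    exact hg.specializes mem_irreducibleComponent
  · rintro _ ⟨C, rfl⟩ _ ⟨C', rfl⟩ h
    have hgen : ∀ D : irreducibleComponents Y, closure {D.2.1.genericPoint} = D.1 := fun D => by
      have hg := D.2.1.isGenericPoint_genericPoint_closure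
      rw [(isClosed_of_mem_irreducibleComponents D.1 D.2).closure_eq] at hg
      exact hg
    have hle : C'.1 ⊆ C.1 := by
      rw [← hgen C, ← hgen C']
      exact closure_minimal (Set.singleton_subset_iff.2 (specializes_iff_mem_closure.1 h)) isClosed_closure
    have he : C' = C := Subtype.ext (C'.2.eq_of_ge C.2.1 hle).symm
    rw [he]

variable {X : Scheme.{u}} {k : Type u} [Field k] [X.Over (Spec (CommRingCat.of k))]
  [IsProper (X ↘ Spec (CommRingCat.of k))] {L : X.Modules}

/-- The difference of the Hilbert function along a section. -/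
theorem chi_sub_of_section (hL : CohB1.IsAmple L) {F : X.Modules} (hF : Coh.IsCoh F) (a : ℕ)
    (σ : Γ(CohB1.tensorPow L a, ⊤)) :
    ∃ (K C : X.Modules), Coh.IsCoh K ∧ Coh.IsCoh C ∧ CohB1.support K ⊆ CohB1.support F ∧
      CohB1.support C ⊆ CohB1.support F ∧
      (∀ x ∈ H11Ample.gen (CohB1.tensorPow L a) σ, x ∉ CohB1.support K ∧ x ∉ CohB1.support C) ∧
      ∀ m, chi k L F (m + a) - chi k L F m = chi k L C m - chi k L K m := by
  haveI : IsLocallyNoetherian X := LocallyOfFiniteType.isLocallyNoetherian (X ↘ Spec (CommRingCat.of k))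
  let φ := mulHom F (H11Tilde.homOfGlobal (CohB1.tensorPow L a) σ)
  have hG : Coh.IsCoh (CohB1.tensorMod F (CohB1.tensorPow L a)) :=
    H11Ample.isCoh_tensor hF (H11Ample.isInvertible_tensorPow hL.1 a)
  have hK := H10Coh.isCoh_kernel φ hF hG.1
  have hC := H10Coh.isCoh_cokernel φ hF.1 hG
  have hI := H10Coh.isCoh_kernel (cokernel.π φ) hG hC.1
  have hS₁ : (ShortComplex.mk (kernel.ι φ) (Abelian.factorThruImage φ)
      (by rw [← cancel_mono (Abelian.image.ι φ), Category.assoc, Abelian.image.fac, kernel.condition,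
        zero_comp])).ShortExact :=
    { exact := ShortComplex.exact_of_f_is_kernel _ (KernelFork.IsLimit.ofι' _ _ fun g hg =>
        ⟨kernel.lift φ g (by rw [← Abelian.image.fac φ, ← Category.assoc, hg, zero_comp]), kernel.lift_ι _ _ _⟩)
      epi_g := inferInstanceAs (Epi (Abelian.factorThruImage φ)) }
  have hS₂ : (ShortComplex.mk (kernel.ι (cokernel.π φ)) (cokernel.π φ) (kernel.condition _)).ShortExact :=
    { exact := ShortComplex.exact_kernel _ }
  refine ⟨_, _, hK, hC, (support_X₁_X₃ hS₁).1, (support_X₁_X₃ hS₂).2.trans (support_tensor_subset _ _),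
    fun x hx => notMem_support_kernel_cokernel φ (x := x) (isIso_stalk_mulHom F _ hx), fun m => ?_⟩
  have e1 : chi k L F m = chi k L (kernel φ) m + chi k L (kernel (cokernel.π φ)) m :=
    chi_add hL.1 hS₁ hK hF hI m
  have e2 : chi k L (CohB1.tensorMod F (CohB1.tensorPow L a)) m =
      chi k L (kernel (cokernel.π φ)) m + chi k L (cokernel φ) m := chi_add hL.1 hS₂ hI hG hC m
  rw [← chi_tensorPow hL.1 F a m, e1, e2]
  ring

theorem isPolyFun_chi (hL : CohB1.IsAmple L) (d : ℕ) : ∀ F : X.Modules, Coh.IsCoh F →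
    topologicalKrullDim (CohB1.support F) < (d : WithBot ℕ∞) → IsPolyFun (chi k L F) := by
  induction d with
  | zero =>
    intro F hF hdim
    exact ⟨0, fun m => by rw [kill_chi (k := k) hL 0 F hF hdim m]; simp⟩
  | succ d ih =>
    intro F hF hdim
    haveI : CompactSpace X := hL.2.1
    haveI : QuasiSeparatedSpace X := quasiSeparatedSpace_of_quasiSeparated (X ↘ Spec (CommRingCat.of k))
    haveI : IsLocallyNoetherian X := LocallyOfFiniteType.isLocallyNoetherian (X ↘ Spec (CommRingCat.of k))
    haveI : IsNoetherian X := {}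
    have hYc : IsClosed (CohB1.support F) := H10Coh.isClosed_support F hF.2
    haveI : QuasiSober (CohB1.support F) := hYc.isClosedEmbedding_subtypeVal.quasiSober
    obtain ⟨Z, hZf, hZ, hanti⟩ := exists_finite_generizing_antichain (CohB1.support F)
    obtain ⟨a, σ, τ, -, hσ, hτ⟩ := exists_consecutive hL (hZf.image Subtype.val) (by
      rintro _ ⟨z, hz, rfl⟩ _ ⟨z', hz', rfl⟩ h
      rw [hanti z hz z' hz' (Topology.IsInducing.subtypeVal.specializes_iff.1 h)])
    have hstep : ∀ (b : ℕ) (ρ : Γ(CohB1.tensorPow L b, ⊤)),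
        Subtype.val '' Z ⊆ H11Ample.gen (CohB1.tensorPow L b) ρ →
        IsPolyFun fun m => chi k L F (m + b) - chi k L F m := by
      intro b ρ hρ
      obtain ⟨K, C, hK, hC, hKle, hCle, hout, he⟩ := chi_sub_of_section (k := k) hL hF b ρ
      have hsub : ∀ M : X.Modules, Coh.IsCoh M → CohB1.support M ⊆ CohB1.support F →
          (∀ x ∈ H11Ample.gen (CohB1.tensorPow L b) ρ, x ∉ CohB1.support M) → IsPolyFun (chi k L M) := by
        intro M hM hle hgen
        refine ih M hM ?_
        have h := dim_lt_of_forall_ne (Y := CohB1.support F) (Subtype.val ⁻¹' CohB1.support M)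
          ((H10Coh.isClosed_support M hM.2).preimage continuous_subtype_val) (fun y hy => ?_) hdim
        · let e : CohB1.support M ≃ₜ (Subtype.val ⁻¹' CohB1.support M : Set (CohB1.support F)) :=
            { toFun := fun x => ⟨⟨x.1, hle x.2⟩, x.2⟩
              invFun := fun x => ⟨x.1.1, x.2⟩
              left_inv := fun _ => rfl
              right_inv := fun _ => rfl }
          rwa [e.isHomeomorph.topologicalKrullDim_eq]
        · obtain ⟨η, hη, hηy⟩ := hZ y
          exact ⟨η, hηy, hgen _ (hρ ⟨η, hη, rfl⟩)⟩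
      rw [funext he]
      exact (hsub C hC hCle fun x hx => (hout x hx).2).sub (hsub K hK hKle fun x hx => (hout x hx).1)
    exact isPolyFun_of_steps _ a (hstep a σ hσ) (hstep (a + 1) τ hτ)

/-- Hilbert polynomials exist. -/
theorem exists_hilbPoly (hL : CohB1.IsAmple L) {F : X.Modules} (hF : Coh.IsCoh F) {d : ℕ}
    (hd : topologicalKrullDim (CohB1.support F) < (d : WithBot ℕ∞)) :
    ∃ P : Polynomial ℚ, ShStab.IsHilbPoly k X L F P := by
  obtain ⟨P, hP⟩ := isPolyFun_chi (k := k) hL d F hF hd
  exact ⟨P, fun m => hP m⟩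

end Groth.Agent.H25Euler
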