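import Groth.Agent.H25Euler.ParSh
import Groth.Agent.H25Euler.Exists
import Groth.Agent.H25Tors.Generic
import Groth.Agent.H17.SuppTensor
import Groth.Agent.H06EGA9.StructureStalk
import Groth.Agent.H11Sym.InvertibleInverse
import Groth.Agent.H24FSch.ModSysPush
import Groth.Agent.H17.ConsModModels
import Groth.Agent.LeadProper.Supp
import Groth.Agent.H10Coh.Pn.Results
import Groth.Prelude.Def_DecSh2

/-!
# The multiplicity of a module on a curve

`α(F) = χ(F ⊗ L) − χ(F)` is additive, nonnegative on curves, and positive on nonzero torsion free modules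
of a reduced curve without isolated points.
-/

set_option autoImplicit false
set_option linter.style.haveILetI false
universe u

open CategoryTheory CategoryTheory.Limits AlgebraicGeometry Opposite TopologicalSpace MonoidalCategory
open Groth.Agent

namespace Groth.Agent.H25Euler

variable {X : Scheme.{u}}

theorem mem_support_structure (x : X) : x ∈ CohB1.support (Coh.structureModule X) := by
  intro h
  haveI : Subsingleton ((Coh.structureModule X).presheaf.stalk x) := h
  exact one_ne_zero ((H06EGA9.bijective_smul_oneStalk x).1 (a₁ := (1 : X.presheaf.stalk x)) (a₂ := 0)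
    (Subsingleton.elim _ _))

theorem support_invertible {M : X.Modules} (hM : PicF.IsInvertible M) : CohB1.support M = Set.univ := by
  obtain ⟨N, hN, ⟨e⟩⟩ := H11Sym.exists_inverse hM
  refine Set.eq_univ_of_forall fun x => ?_
  have h := LeadDev.support_subset_of_iso e.symm (mem_support_structure x)
  rw [H17.SuppTensor.support_tensor N M (H11Ample.isCoh_of_isInvertible hN).2 (H11Ample.isCoh_of_isInvertible hM).2] at h
  exact h.2

theorem support_tensor_invertible {F M : X.Modules} (hF : Coh.IsCoh F) (hM : PicF.IsInvertible M) :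
    CohB1.support (CohB1.tensorMod F M) = CohB1.support F := by
  rw [H17.SuppTensor.support_tensor F M hF.2 (H11Ample.isCoh_of_isInvertible hM).2, support_invertible hM, Set.inter_univ]

theorem support_nonempty {F : X.Modules} (h : ¬ IsZero F) : (CohB1.support F).Nonempty := by
  by_contra hne
  exact h (H16Derived.KFlat.Stalk.isZero_of_stalk fun x =>
    (notMem_support_iff F x).1 fun hx => hne ⟨x, hx⟩)

theorem subsingleton_sections_top {M : X.Modules} [Subsingleton Γ(M, ⊤)] : Subsingleton M.sections :=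
  ⟨fun s t => Subtype.ext (funext fun U => by
    have hs := s.2 (homOfLE (le_top : U.unop ≤ ⊤)).op
    have ht := t.2 (homOfLE (le_top : U.unop ≤ ⊤)).op
    exact hs.symm.trans ((congrArg _ (Subsingleton.elim (α := Γ(M, ⊤)) _ _)).trans ht))⟩

/-- A nonzero globally generated module has a nonzero global section. -/
theorem nontrivial_of_globallyGenerated {M : X.Modules} (hM : ¬ IsZero M) (h : Curv2.IsGloballyGenerated M) :
    Nontrivial Γ(M, ⊤) := by
  rw [← not_subsingleton_iff_nontrivial]
  intro hs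
  obtain ⟨ι, p, hp⟩ := h
  haveI := subsingleton_sections_top (M := M)
  haveI := (M.freeHomEquiv (I := ι)).subsingleton
  refine hM ((IsZero.iff_id_eq_zero (X := M)).2 ?_)
  haveI := hp
  exact (cancel_epi p).1 (Subsingleton.elim _ _)

section field

variable (k : Type u) [Field k] [X.Over (Spec (CommRingCat.of k))] [IsProper (X ↘ Spec (CommRingCat.of k))]
  {L : X.Modules}

/-- The Hilbert function of a nonzero coherent module is eventually positive. -/
theorem chi_pos (hL : CohB1.IsAmple L) {F : X.Modules} (hF : Coh.IsCoh F) (h0 : ¬ IsZero F) :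
    ∃ N : ℕ, ∀ m, N ≤ m → 1 ≤ chi k L F m := by
  haveI : CompactSpace X := hL.2.1
  haveI : QuasiSeparatedSpace X := quasiSeparatedSpace_of_quasiSeparated (X ↘ Spec (CommRingCat.of k))
  obtain ⟨N, hN⟩ := H10Coh.Tw.exists_vanishing_ample (X ↘ Spec (CommRingCat.of k)) hL F hF
  obtain ⟨n₀, hn₀⟩ := H11Ample.eventually_globallyGenerated hL hF
  refine ⟨max N n₀, fun m hm => ?_⟩
  let M := ShStab.twist X L F m
  have hM : Coh.IsCoh M := H11Ample.isCoh_tensor hF (H11Ample.isInvertible_tensorPow hL.1 m)
  have hM0 : ¬ IsZero M := fun hz => by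
    obtain ⟨x, hx⟩ := support_nonempty h0
    rw [← support_tensor_invertible hF (H11Ample.isInvertible_tensorPow hL.1 m)] at hx
    exact (notMem_support_iff M x).2 ((DerSch.stalkFunctor X x).map_isZero hz) hx
  haveI := nontrivial_of_globallyGenerated hM0 (hn₀ m (le_trans (le_max_right _ _) hm))
  haveI : Nontrivial (Coh.HH X M 0) := (H10Coh.HH0Equiv M).toEquiv.nontrivial
  haveI := H10Coh.finite_HH_proper k X M hM 0
  show 1 ≤ Curv2.euler k X M
  rw [euler_eq_sum M 1 fun p hp => (H10Coh.HHEquiv M p).toEquiv.subsingleton_congr.2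
    (hN m (le_trans (le_max_left _ _) hm) p hp), Finset.sum_range_one, pow_zero, one_mul]
  exact_mod_cast Module.finrank_pos

theorem chi_zero_eq (F : X.Modules) : chi k L F 0 = Curv2.euler k X F :=
  euler_congr (H10Coh.Tw.rightUnitIso F)

theorem chi_one_eq (F : X.Modules) : chi k L F 1 = Curv2.euler k X (CohB1.tensorMod F L) :=
  euler_congr (eqToIso (tensorBi_obj_obj F _).symm ≪≫
    ((DCoh.tensorBi (X := X)).obj F).mapIso (H10Coh.Tw.leftUnitIso L) ≪≫ eqToIso (tensorBi_obj_obj F L))

theorem mult_eq_chi (F : X.Modules) : DecSh.mult k X L F = chi k L F 1 - chi k L F 0 := by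
  rw [chi_zero_eq, chi_one_eq]; rfl

theorem mult_congr {F G : X.Modules} (e : F ≅ G) : DecSh.mult k X L F = DecSh.mult k X L G := by
  rw [mult_eq_chi, mult_eq_chi, chi_congr e, chi_congr e]

theorem mult_add (hL : PicF.IsInvertible L) {S : ShortComplex X.Modules} (hS : S.ShortExact)
    (h₁ : Coh.IsCoh S.X₁) (h₂ : Coh.IsCoh S.X₂) (h₃ : Coh.IsCoh S.X₃) :
    DecSh.mult k X L S.X₂ = DecSh.mult k X L S.X₁ + DecSh.mult k X L S.X₃ := by
  simp only [mult_eq_chi, chi_add (k := k) hL hS h₁ h₂ h₃]
  ring

theorem exists_linear (hdim : topologicalKrullDim X ≤ 1) (hL : CohB1.IsAmple L) {F : X.Modules}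
    (hF : Coh.IsCoh F) :
    ∃ P : Polynomial ℚ, ShStab.IsHilbPoly k X L F P ∧ (∀ n, 1 < n → P.coeff n = 0) ∧
      (DecSh.mult k X L F : ℚ) = P.coeff 1 := by
  have hd : topologicalKrullDim (CohB1.support F) < ((2 : ℕ) : WithBot ℕ∞) :=
    lt_of_le_of_lt ((Topology.IsInducing.topologicalKrullDim_le (f := (Subtype.val : CohB1.support F → X))
      Topology.IsInducing.subtypeVal).trans hdim) (by norm_num)
  obtain ⟨P, hP⟩ := exists_hilbPoly (k := k) hL hF hd
  have hc : ∀ n, 1 < n → P.coeff n = 0 := fun n hn => coeff_hilbPoly_eq_zero (k := k) hL hF hP hd hn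
  refine ⟨P, hP, hc, ?_⟩
  have hPX : P = Polynomial.C (P.coeff 1) * Polynomial.X + Polynomial.C (P.coeff 0) :=
    Polynomial.eq_X_add_C_of_natDegree_le_one (Polynomial.natDegree_le_iff_coeff_eq_zero.2 hc)
  have h1 : (chi k L F 1 : ℚ) = P.eval ((1 : ℕ) : ℚ) := hP 1
  have h0 : (chi k L F 0 : ℚ) = P.eval ((0 : ℕ) : ℚ) := hP 0
  rw [mult_eq_chi, Int.cast_sub, h1, h0]
  conv_lhs => rw [hPX]
  simp

theorem mult_nonneg (hdim : topologicalKrullDim X ≤ 1) (hL : CohB1.IsAmple L) {F : X.Modules}
    (hF : Coh.IsCoh F) : 0 ≤ DecSh.mult k X L F := by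
  obtain ⟨P, hP, hc, he⟩ := exists_linear k hdim hL hF
  have h := coeff_nonneg_of_eventually hc (eval_nonneg (k := k) hL hF hP)
  rw [← he] at h
  exact_mod_cast h

theorem mult_le_of_mono (hdim : topologicalKrullDim X ≤ 1) (hL : CohB1.IsAmple L) {F E : X.Modules} (ι : F ⟶ E)
    [Mono ι] (hF : Coh.IsCoh F) (hE : Coh.IsCoh E) : DecSh.mult k X L F ≤ DecSh.mult k X L E := by
  have hC := H10Coh.isCoh_cokernel ι hF.1 hE
  have hS : (ShortComplex.mk ι (cokernel.π ι) (cokernel.condition _)).ShortExact :=
    { exact := ShortComplex.exact_cokernel _ }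
  have e₁ : chi k L E 1 = chi k L F 1 + chi k L (cokernel ι) 1 := chi_add hL.1 hS hF hE hC 1
  have e₀ : chi k L E 0 = chi k L F 0 + chi k L (cokernel ι) 0 := chi_add hL.1 hS hF hE hC 0
  have h' : 0 ≤ chi k L (cokernel ι) 1 - chi k L (cokernel ι) 0 :=
    (mult_nonneg k hdim hL hC).trans (mult_eq_chi k (cokernel ι)).le
  rw [mult_eq_chi, mult_eq_chi, e₁, e₀]
  linarith

end field

theorem isTorsionFree_of_linearMap {R M N : Type*} [CommRing R] [AddCommGroup M] [AddCommGroup N] [Module R M]
    [Module R N] [Module.IsTorsionFree R N] (f : M →ₗ[R] N) (hf : Function.Injective f) :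
    Module.IsTorsionFree R M := hf.moduleIsTorsionFree f f.map_smul

theorem isTorsionFree_of_mono {F E : X.Modules} (ι : F ⟶ E) [Mono ι] (h : TorSh.IsTorsionFree E) :
    TorSh.IsTorsionFree F := fun x => by
  haveI := h x
  exact isTorsionFree_of_linearMap (H06Mod.stalkLin ι x) (LeadDev.stalk_injective_of_mono ι x)

theorem exists_generic_mem_support [IsLocallyNoetherian X] [AlgebraicGeometry.IsReduced X] {F : X.Modules}
    (hF : Coh.IsCoh F) (htf : TorSh.IsTorsionFree F) (h0 : ¬ IsZero F) :
    ∃ η ∈ CohB1.support F, ∀ z : X, z ⤳ η → z = η := by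
  by_contra hne
  push Not at hne
  refine h0 (LeadDev.isZero_of_sections fun U s => H25Tors.eq_zero_of_forall_generic F hF.1 htf U s
    fun η hη hηU => ?_)
  have hns : η ∉ CohB1.support F := fun hmem => by
    obtain ⟨z, hz, hzne⟩ := hne η hmem
    exact hzne ((H8Props.mem_genericPoints_iff).1 hη z hz)
  haveI : Subsingleton (F.presheaf.stalk η) := not_not.1 hns
  exact Subsingleton.elim _ _

/-- A point without proper generisation is not closed if there are no isolated points. -/
theorem not_isClosed_singleton_of_maximal [NoetherianSpace X] (hpure : ∀ x : X, ¬ IsOpen ({x} : Set X))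
    {η : X} (hη : ∀ z : X, z ⤳ η → z = η) : ¬ IsClosed ({η} : Set X) := by
  intro hc
  obtain ⟨Z, hZf, hZ, -⟩ := exists_finite_generizing_antichain X
  refine hpure η ?_
  have hu : ({η} : Set X)ᶜ = ⋃ z ∈ Z \ {η}, closure {z} := by
    ext y
    simp only [Set.mem_compl_iff, Set.mem_singleton_iff, Set.mem_iUnion, exists_prop, Set.mem_diff]
    constructor
    · intro hy
      obtain ⟨z, hz, hzy⟩ := hZ y
      refine ⟨z, ⟨hz, fun e => hy ?_⟩, specializes_iff_mem_closure.1 hzy⟩
      subst e
      exact hzy.mem_closed hc rfl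
    · rintro ⟨z, ⟨-, hzne⟩, hzy⟩ rfl
      exact hzne (hη z (specializes_iff_mem_closure.2 hzy))
  rw [← isClosed_compl_iff, hu]
  exact (hZf.subset Set.sdiff_subset).isClosed_biUnion fun _ _ => isClosed_closure

/-- A nonzero torsion free coherent module on a reduced scheme without isolated points has a nonzero coherent
submodule with nonzero quotient. -/
theorem exists_sub_ne [IsNoetherian X] [AlgebraicGeometry.IsReduced X] (hpure : ∀ x : X, ¬ IsOpen ({x} : Set X))
    {F : X.Modules} (hF : Coh.IsCoh F) (htf : TorSh.IsTorsionFree F) (h0 : ¬ IsZero F) :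
    ∃ (G : X.Modules) (ι : G ⟶ F), Mono ι ∧ Coh.IsCoh G ∧ ¬ IsZero G ∧ ¬ IsZero (cokernel ι) := by
  obtain ⟨η, hη, hmax⟩ := exists_generic_mem_support hF htf h0
  obtain ⟨x, hxS, hxc⟩ := IsClosed.exists_closed_singleton (S := closure ({η} : Set X)) isClosed_closure
    ⟨η, subset_closure rfl⟩
  have hne : η ≠ x := fun e => not_isClosed_singleton_of_maximal hpure hmax (e ▸ hxc)
  have hx : x ∈ CohB1.support F :=
    closure_minimal (Set.singleton_subset_iff.2 hη) (H10Coh.isClosed_support F hF.2) hxS
  let J := Scheme.IdealSheafData.vanishingIdeal (⟨{x}, hxc⟩ : Closeds X)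
  have hr : Set.range J.subschemeι = ({x} : Set X) := by
    rw [J.range_subschemeι, Scheme.IdealSheafData.coe_support_vanishingIdeal]; rfl
  let adj := Scheme.Modules.pullbackPushforwardAdjunction J.subschemeι
  let u := adj.unit.app F
  have hG : Coh.IsCoh ((Scheme.Modules.pushforward J.subschemeι).obj ((Scheme.Modules.pullback J.subschemeι).obj F)) :=
    H24FSch.isCoh_pushforward_of_isClosedImmersion J.subschemeι (H17.ConsProp.isCoh_pullback J.subschemeι hF)
  have hK : Coh.IsCoh (kernel u) := H10Coh.isCoh_kernel u hF hG.1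
  refine ⟨kernel u, kernel.ι u, inferInstance, hK, fun hz => ?_, fun hz => ?_⟩
  · haveI : Mono u := Preadditive.mono_of_kernel_zero (hz.eq_of_src _ _)
    exact LeadDev.notMem_support_push J.subschemeι ((Scheme.Modules.pullback J.subschemeι).obj F)
      (x := η) (by rw [hr]; exact hne) (LeadDev.support_subset_of_mono u hη)
  · haveI : Epi (kernel.ι u) := Preadditive.epi_of_cokernel_zero (hz.eq_of_tgt _ _)
    have hu : u = 0 := by rw [← cancel_epi (kernel.ι u), kernel.condition, comp_zero]
    have hid := adj.left_triangle_components F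
    rw [show adj.unit.app F = 0 from hu, Functor.map_zero, zero_comp] at hid
    have hzero : IsZero ((Scheme.Modules.pullback J.subschemeι).obj F) := (IsZero.iff_id_eq_zero _).2 hid.symm
    obtain ⟨z, hz⟩ : x ∈ Set.range J.subschemeι := by rw [hr]; rfl
    have hmem : z ∈ CohB1.support ((Scheme.Modules.pullback J.subschemeι).obj F) := by
      rw [LeadProper.support_pullback F hF.1 hF.2]
      rw [Set.mem_preimage, hz]; exact hx
    exact (notMem_support_iff _ z).2 ((DerSch.stalkFunctor _ z).map_isZero hzero) hmem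

section field

variable (k : Type u) [Field k] [X.Over (Spec (CommRingCat.of k))] [IsProper (X ↘ Spec (CommRingCat.of k))]
  {L : X.Modules}

theorem chi_unbounded [AlgebraicGeometry.IsReduced X] (hpure : ∀ x : X, ¬ IsOpen ({x} : Set X))
    (hL : CohB1.IsAmple L) : ∀ (n : ℕ) (F : X.Modules), Coh.IsCoh F → TorSh.IsTorsionFree F → ¬ IsZero F →
      ∃ N : ℕ, ∀ m, N ≤ m → (n : ℤ) ≤ chi k L F m := by
  haveI : CompactSpace X := hL.2.1
  haveI : IsLocallyNoetherian X := LocallyOfFiniteType.isLocallyNoetherian (X ↘ Spec (CommRingCat.of k))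
  haveI : IsNoetherian X := {}
  intro n
  induction n with
  | zero => intro F hF _ _; simpa using chi_nonneg (k := k) hL hF
  | succ n ih =>
    intro F hF htf h0
    obtain ⟨G, ι, hι, hG, hG0, hC0⟩ := exists_sub_ne hpure hF htf h0
    haveI := hι
    obtain ⟨N₁, h₁⟩ := ih G hG (isTorsionFree_of_mono ι htf) hG0
    have hC := H10Coh.isCoh_cokernel ι hG.1 hF
    obtain ⟨N₂, h₂⟩ := chi_pos k hL hC hC0
    refine ⟨max N₁ N₂, fun m hm => ?_⟩
    have hS : (ShortComplex.mk ι (cokernel.π ι) (cokernel.condition _)).ShortExact :=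
      { exact := ShortComplex.exact_cokernel _ }
    have h : chi k L F m = chi k L G m + chi k L (cokernel ι) m := chi_add (k := k) hL.1 hS hG hF hC m
    have := h₁ m (le_trans (le_max_left _ _) hm)
    have := h₂ m (le_trans (le_max_right _ _) hm)
    push_cast
    omega

theorem mult_pos [AlgebraicGeometry.IsReduced X] (hdim : topologicalKrullDim X ≤ 1)
    (hpure : ∀ x : X, ¬ IsOpen ({x} : Set X)) (hL : CohB1.IsAmple L) {F : X.Modules}
    (hF : Coh.IsCoh F) (htf : TorSh.IsTorsionFree F) (h0 : ¬ IsZero F) : 1 ≤ DecSh.mult k X L F := by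
  rcases (mult_nonneg k hdim hL hF).lt_or_eq with h | h
  · omega
  obtain ⟨P, hP, hc, he⟩ := exists_linear k hdim hL hF
  rw [← h, Int.cast_zero] at he
  obtain ⟨n, hn⟩ := exists_nat_gt (P.coeff 0)
  obtain ⟨N, hN⟩ := chi_unbounded k hpure hL n F hF htf h0
  have h1 : (n : ℚ) ≤ (chi k L F N : ℚ) := by exact_mod_cast hN N le_rfl
  have h2 : (chi k L F N : ℚ) = P.eval (N : ℚ) := hP N
  rw [Polynomial.eq_X_add_C_of_natDegree_le_one (Polynomial.natDegree_le_iff_coeff_eq_zero.2 hc), ← he] at h2
  simp only [map_zero, zero_mul, zero_add, Polynomial.eval_C] at h2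
  linarith

end field

end Groth.Agent.H25Euler
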