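import Groth.Agent.H25Euler.Saturate
import Groth.Agent.H25Euler.Mult

/-!
# The Hilbert polynomial of a module with `d`-dimensional support has positive coefficient in degree `d`
-/

set_option autoImplicit false
set_option linter.style.haveILetI false
universe u

open CategoryTheory CategoryTheory.Limits AlgebraicGeometry Opposite TopologicalSpace
open Groth.Agent
open scoped ZeroObject

namespace Groth.Agent.H25Euler

theorem coeff_taylor_sub (P : Polynomial ℚ) (a : ℚ) {d : ℕ} (h : P.natDegree ≤ d) :
    (Polynomial.taylor a P - P).coeff d = 0 := by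
  have hz : Polynomial.hasseDeriv d P = Polynomial.C (P.coeff d) := by
    ext n
    rw [Polynomial.hasseDeriv_coeff, Polynomial.coeff_C]
    rcases Nat.eq_zero_or_pos n with rfl | hn
    · simp
    · rw [if_neg hn.ne', Polynomial.coeff_eq_zero_of_natDegree_lt (by omega), mul_zero]
  rw [Polynomial.coeff_sub, Polynomial.taylor_coeff, hz, Polynomial.eval_C, sub_self]

variable {X : Scheme.{u}}

/-- A point outside the support of the cokernel of a section is a generating point. -/
theorem mem_gen_of_notMem_support_coker {M : X.Modules} (hM : PicF.IsInvertible M) (g : Γ(M, ⊤)) {y : X}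
    (hy : y ∉ CohB1.support (cokernel (H11Tilde.homOfGlobal M g))) : y ∈ H11Ample.gen M g := by
  let s := H11Tilde.homOfGlobal M g
  have hS : (ShortComplex.mk (kernel.ι (cokernel.π s)) (cokernel.π s) (kernel.condition _)).ShortExact :=
    { exact := ShortComplex.exact_kernel _ }
  have hC : Coh.IsCoh (cokernel s) :=
    H10Coh.isCoh_cokernel s H10Coh.isQuasicoherent_unit (H11Ample.isCoh_of_isInvertible hM)
  have hsurj : Function.Surjective (H06Mod.stalkLin s y) := by
    haveI : Epi (Abelian.factorThruImage s) := inferInstance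
    have hz := (notMem_support_iff _ y).1 hy
    have hE : ((ShortComplex.mk s (cokernel.π s) (cokernel.condition _)).map (DerSch.stalkFunctor X y)).Exact :=
      (ShortComplex.exact_cokernel s).map _
    haveI : Epi ((DerSch.stalkFunctor X y).map s) := hE.epi_f (hz.eq_of_tgt _ _)
    exact (ModuleCat.epi_iff_surjective _).1 this
  rw [H11Ample.mem_gen_iff hM]
  have hgen : ∀ a : M.presheaf.stalk y, ∃ r : X.presheaf.stalk y, r • M.presheaf.germ ⊤ y trivial g = a := by
    intro a
    obtain ⟨b, rfl⟩ := hsurj a
    obtain ⟨U, hU, b, rfl⟩ := (Coh.structureModule X).presheaf.exists_germ_eq b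
    refine ⟨X.presheaf.germ U y hU b, ?_⟩
    rw [H06Mod.stalkLin_germ, H11Tilde.homOfGlobal_app]
    refine Eq.trans ?_ (H06Mod.germ_smul M U hU _ _).symm
    rw [TopCat.Presheaf.germ_res_apply]
  obtain ⟨V, e, hyV, he⟩ := H11Ample.exists_gen hM y
  let f := LinearMap.toSpanSingleton (X.presheaf.stalk y) _ (M.presheaf.germ V y hyV e)
  let φ := LinearEquiv.ofBijective f (he y hyV)
  let ψ : X.presheaf.stalk y →ₗ[X.presheaf.stalk y] X.presheaf.stalk y :=
    φ.symm.toLinearMap ∘ₗ LinearMap.toSpanSingleton (X.presheaf.stalk y) _ (M.presheaf.germ ⊤ y trivial g)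
  have hψ : Function.Surjective ψ := φ.symm.surjective.comp fun a => hgen a
  have hinj : Function.Injective ψ := OrzechProperty.injective_of_surjective_endomorphism ψ hψ
  exact ⟨fun r r' h => hinj (congrArg φ.symm h), fun a => hgen a⟩

theorem mem_support_coker_mulHom {F M : X.Modules} (hF : Coh.IsCoh F) (hM : PicF.IsInvertible M) (g : Γ(M, ⊤)) {y : X}
    (hyF : y ∈ CohB1.support F) (hy : y ∉ H11Ample.gen M g) :
    y ∈ CohB1.support (cokernel (mulHom F (H11Tilde.homOfGlobal M g))) := by
  have hC : Coh.IsCoh (cokernel (H11Tilde.homOfGlobal M g)) :=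
    H10Coh.isCoh_cokernel _ H10Coh.isQuasicoherent_unit (H11Ample.isCoh_of_isInvertible hM)
  let T := (DCoh.tensorBi (X := X)).obj F
  haveI : PreservesColimit (parallelPair (H11Tilde.homOfGlobal M g) 0) T :=
    haveI := preservesColimitsOfSize_shrink.{0, u, 0, u} T
    inferInstance
  let e₁ : cokernel (mulHom F (H11Tilde.homOfGlobal M g)) ≅ cokernel (T.map (H11Tilde.homOfGlobal M g)) :=
    (cokernelEpiComp _ _) ≪≫ (cokernelEpiComp _ _) ≪≫ cokernelCompIsIso _ _
  let e : cokernel (mulHom F (H11Tilde.homOfGlobal M g)) ≅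
      CohB1.tensorMod F (cokernel (H11Tilde.homOfGlobal M g)) :=
    e₁ ≪≫ (PreservesCokernel.iso T (H11Tilde.homOfGlobal M g)).symm ≪≫ eqToIso (tensorBi_obj_obj F _)
  refine LeadDev.support_subset_of_iso e.symm ?_
  rw [H17.SuppTensor.support_tensor F _ hF.2 hC.2]
  exact ⟨hyF, fun h => hy (mem_gen_of_notMem_support_coker hM g fun h' => h' h)⟩

section field

variable (k : Type u) [Field k] [X.Over (Spec (CommRingCat.of k))] [IsProper (X ↘ Spec (CommRingCat.of k))]
  {L : X.Modules}

theorem coeff_pos (hL : CohB1.IsAmple L) : ∀ (d : ℕ) (F : X.Modules), Coh.IsCoh F →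
    topologicalKrullDim (CohB1.support F) = (d : WithBot ℕ∞) →
    ∀ P : Polynomial ℚ, ShStab.IsHilbPoly k X L F P → 0 < P.coeff d := by
  haveI : CompactSpace X := hL.2.1
  haveI : QuasiSeparatedSpace X := quasiSeparatedSpace_of_quasiSeparated (X ↘ Spec (CommRingCat.of k))
  haveI : IsLocallyNoetherian X := LocallyOfFiniteType.isLocallyNoetherian (X ↘ Spec (CommRingCat.of k))
  haveI : IsNoetherian X := {}
  intro d
  induction d with
  | zero =>
    intro F hF hdim P hP
    have h0 : ¬ IsZero F := fun hz => by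
      have h := dim_support_of_isZero (X := X) hz 0
      rw [hdim] at h
      exact lt_irrefl _ h
    have hc : ∀ n, 0 < n → P.coeff n = 0 := fun n hn =>
      coeff_hilbPoly_eq_zero (k := k) hL hF hP (d := 1) (by rw [hdim]; norm_num) hn
    obtain ⟨N, hN⟩ := chi_pos k hL hF h0
    have h1 : (1 : ℚ) ≤ (chi k L F N : ℚ) := by exact_mod_cast hN N le_rfl
    have h2 : (chi k L F N : ℚ) = P.eval (N : ℚ) := hP N
    rw [Polynomial.eq_C_of_natDegree_le_zero (Polynomial.natDegree_le_iff_coeff_eq_zero.2 hc),
      Polynomial.eval_C] at h2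
    linarith
  | succ d ih =>
    intro F₀ hF₀ hdim₀ P₀ hP₀
    have hlt : ((d + 1 : ℕ) : WithBot ℕ∞) < ((d + 1 + 1 : ℕ) : WithBot ℕ∞) := by
      exact_mod_cast Nat.lt_succ_self (d + 1)
    -- remove the part of small dimension
    have h0c : Coh.IsCoh (0 : X.Modules) := LeadDev.isCoh_of_isZero (isZero_zero _)
    obtain ⟨W, ι, φ, hι, -, hW, hdimφ, hpure⟩ :=
      exists_saturation_of_dim k hL hF₀ h0c (0 : (0 : X.Modules) ⟶ F₀) hdim₀
    haveI := hι
    let F := cokernel ι
    have hF : Coh.IsCoh F := H10Coh.isCoh_cokernel ι hW.1 hF₀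
    have hWdim : topologicalKrullDim (CohB1.support W) < ((d + 1 : ℕ) : WithBot ℕ∞) := by
      have hS : (ShortComplex.mk φ (cokernel.π φ) (cokernel.condition _)).ShortExact :=
        { exact := ShortComplex.exact_cokernel _
          mono_f := (isZero_zero X.Modules).mono _ }
      refine dim_lt_of_subset ((LeadDev.support_subset_of_shortExact hS).trans ?_) hdimφ
      exact Set.union_subset (fun x hx => ((notMem_support_iff _ x).2
        ((DerSch.stalkFunctor X x).map_isZero (isZero_zero _)) hx).elim) le_rfl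
    have hF0 : ¬ IsZero F := fun hz => by
      haveI : Epi ι := Preadditive.epi_of_cokernel_zero (hz.eq_of_tgt _ _)
      exact absurd hdim₀ (ne_of_lt (dim_lt_of_subset (LeadDev.support_subset_of_epi ι) hWdim))
    have hdimF : topologicalKrullDim (CohB1.support F) = ((d + 1 : ℕ) : WithBot ℕ∞) :=
      hpure F (𝟙 F) inferInstance hF hF0
    have hdimW' : topologicalKrullDim (CohB1.support W) < ((d + 1 + 1 : ℕ) : WithBot ℕ∞) := hWdim.trans hlt
    obtain ⟨Q, hQ⟩ := exists_hilbPoly (k := k) hL hW hdimW'
    obtain ⟨hq, hP⟩ := polyLE_of_mono (k := k) hL hW hF₀ ι hQ hP₀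
    suffices h : 0 < (P₀ - Q).coeff (d + 1) by
      rwa [Polynomial.coeff_sub, coeff_hilbPoly_eq_zero (k := k) hL hW hQ hWdim le_rfl, sub_zero] at h
    generalize P₀ - Q = P at hP ⊢
    change ShStab.IsHilbPoly k X L F P at hP
    -- the generic points and a point of codimension one
    let Y := CohB1.support F
    have hYc : IsClosed Y := H10Coh.isClosed_support F hF.2
    haveI : QuasiSober Y := hYc.isClosedEmbedding_subtypeVal.quasiSober
    obtain ⟨Z, hZf, hZ, hanti⟩ := exists_finite_generizing_antichain Y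
    letI : PartialOrder Y := specializationOrder Y
    letI : Preorder Y := (specializationOrder Y).toPreorder
    have hk : ((d + 1 : ℕ) : WithBot ℕ∞) ≤ Order.krullDim Y := by
      rw [← H17.topologicalKrullDim_eq_krullDim_specialization]; exact hdimF.ge
    obtain ⟨p, hp⟩ := Order.le_krullDim_iff.1 hk
    let y : Y := p ⟨d, by omega⟩
    let top : Y := p ⟨d + 1, by omega⟩
    have hlt1 : (⟨d, by omega⟩ : Fin (p.length + 1)) < ⟨d + 1, by omega⟩ := Fin.mk_lt_mk.2 (Nat.lt_succ_self d)
    have htop : y ≠ top := (LTSeries.strictMono p hlt1).ne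
    have htop' : top ⤳ y := LTSeries.monotone p hlt1.le
    have hy : ∀ z ∈ Z, ¬ (y ⤳ z) := fun z hz hyz => by
      obtain ⟨z', hz', hz'top⟩ := hZ top
      have h1 : top ⤳ y := htop'
      have e := hanti z' hz' z hz ((hz'top.trans h1).trans hyz)
      subst e
      exact htop ((hyz.trans hz'top).antisymm h1).eq
    obtain ⟨a, σ, ha, hσ, hσU, -⟩ := H11Ample.exists_affine_gen_nhd_finite hL (hZf.image Subtype.val)
      (U := ⟨(closure {(y : X)})ᶜ, isClosed_closure.isOpen_compl⟩) (by
        rintro _ ⟨z, hz, rfl⟩ hc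
        exact hy z hz (Topology.IsInducing.subtypeVal.specializes_iff.1 (specializes_iff_mem_closure.2 hc)))
    have hyg : (y : X) ∉ H11Ample.gen (CohB1.tensorPow L a) σ := fun h => hσU h (subset_closure rfl)
    have hLa := H11Ample.isInvertible_tensorPow hL.1 a
    let ψ := mulHom F (H11Tilde.homOfGlobal (CohB1.tensorPow L a) σ)
    have hG : Coh.IsCoh (CohB1.tensorMod F (CohB1.tensorPow L a)) := H11Ample.isCoh_tensor hF hLa
    have hK := H10Coh.isCoh_kernel ψ hF hG.1
    have hC := H10Coh.isCoh_cokernel ψ hF.1 hG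
    have hout := fun x hx => notMem_support_kernel_cokernel ψ (x := x)
      (isIso_stalk_mulHom F (H11Tilde.homOfGlobal (CohB1.tensorPow L a) σ) (x := x) hx)
    have hsmall : ∀ M : X.Modules, Coh.IsCoh M → CohB1.support M ⊆ Y →
        (∀ x ∈ H11Ample.gen (CohB1.tensorPow L a) σ, x ∉ CohB1.support M) →
        topologicalKrullDim (CohB1.support M) < ((d + 1 : ℕ) : WithBot ℕ∞) := by
      intro M hM hle hgen
      have h := dim_lt_of_forall_ne (Y := Y) (d := d + 1) (Subtype.val ⁻¹' CohB1.support M)
        ((H10Coh.isClosed_support M hM.2).preimage continuous_subtype_val) (fun y hy => ?_)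
        (by rw [hdimF]; exact hlt)
      · let e : CohB1.support M ≃ₜ (Subtype.val ⁻¹' CohB1.support M : Set Y) :=
          { toFun := fun x => ⟨⟨x.1, hle x.2⟩, x.2⟩
            invFun := fun x => ⟨x.1.1, x.2⟩
            left_inv := fun _ => rfl
            right_inv := fun _ => rfl }
        rwa [e.isHomeomorph.topologicalKrullDim_eq]
      · obtain ⟨η, hη, hηy⟩ := hZ y
        exact ⟨η, hηy, hgen _ (hσ ⟨η, hη, rfl⟩)⟩
    haveI hmono : Mono ψ := Preadditive.mono_of_kernel_zero (by
      by_contra hne
      have hK0 : ¬ IsZero (kernel ψ) := fun hz => hne (hz.eq_of_src _ _)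
      have hsub := LeadDev.support_subset_of_mono (kernel.ι ψ)
      exact (hsmall _ hK hsub fun x hx => (hout x hx).1).ne (hpure _ (kernel.ι ψ) inferInstance hK hK0))
    have hCs : CohB1.support (cokernel ψ) ⊆ Y :=
      (support_cokernel_subset ψ).trans (support_tensor_subset _ _)
    have hClt := hsmall _ hC hCs fun x hx => (hout x hx).2
    have hyC : (y : X) ∈ CohB1.support (cokernel ψ) := mem_support_coker_mulHom hF hLa σ y.2 hyg
    have hCd : topologicalKrullDim (CohB1.support (cokernel ψ)) = (d : WithBot ℕ∞) := by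
      refine le_antisymm ?_ ?_
      · revert hClt
        generalize topologicalKrullDim (CohB1.support (cokernel ψ)) = t
        cases t with
        | bot => intro _; exact bot_le
        | coe t =>
          intro h
          cases t with
          | top => exact absurd h (not_lt.2 (WithBot.coe_le_coe.2 le_top))
          | coe t => exact_mod_cast Nat.lt_succ_iff.1 (by exact_mod_cast h)
      · have hCc : IsClosed (CohB1.support (cokernel ψ)) := H10Coh.isClosed_support _ hC.2
        haveI : QuasiSober (CohB1.support (cokernel ψ)) := hCc.isClosedEmbedding_subtypeVal.quasiSober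
        letI : PartialOrder (CohB1.support (cokernel ψ)) := specializationOrder (CohB1.support (cokernel ψ))
        letI : Preorder (CohB1.support (cokernel ψ)) := (specializationOrder (CohB1.support (cokernel ψ))).toPreorder
        rw [H17.topologicalKrullDim_eq_krullDim_specialization]
        have hmem : ∀ i : Fin (d + 1), ((p ⟨i, by omega⟩ : Y) : X) ∈ CohB1.support (cokernel ψ) := fun i =>
          ((show y ⤳ p ⟨i, by omega⟩ from LTSeries.monotone p (show (⟨i, _⟩ : Fin (p.length + 1)) ≤ ⟨d, _⟩ from
            Fin.mk_le_mk.2 (Nat.lt_succ_iff.1 i.2))).map continuous_subtype_val).mem_closed hCc hyC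
        let q : @LTSeries (CohB1.support (cokernel ψ)) (specializationOrder (CohB1.support (cokernel ψ))).toPreorder :=
          { length := d
            toFun := fun i => ⟨_, hmem i⟩
            step := fun i => show @LT.lt _ (specializationOrder (CohB1.support (cokernel ψ))).toPreorder.toLT
                (⟨_, hmem i.castSucc⟩ : CohB1.support (cokernel ψ)) ⟨_, hmem i.succ⟩ from by
              have hi : (⟨i, by omega⟩ : Fin (p.length + 1)) < ⟨i + 1, by omega⟩ := Fin.mk_lt_mk.2 (Nat.lt_succ_self _)
              refine lt_of_le_of_ne ?_ fun e => (LTSeries.strictMono p hi).ne ?_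
              · exact Topology.IsInducing.subtypeVal.specializes_iff.1
                  ((show p ⟨i + 1, by omega⟩ ⤳ p ⟨i, by omega⟩ from LTSeries.monotone p hi.le).map continuous_subtype_val)
              · exact Subtype.ext (congrArg (fun z : CohB1.support (cokernel ψ) => z.1) e) }
        exact Order.LTSeries.length_le_krullDim q
    obtain ⟨R, hR⟩ := exists_hilbPoly (k := k) hL hC hClt
    have hRpos := ih (cokernel ψ) hC hCd R hR
    have hS : (ShortComplex.mk ψ (cokernel.π ψ) (cokernel.condition _)).ShortExact :=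
      { exact := ShortComplex.exact_cokernel _ }
    have hRe : R = Polynomial.taylor (a : ℚ) P - P := by
      refine Polynomial.eq_of_infinite_eval_eq _ _ (Set.Infinite.mono ?_
        (Set.infinite_range_of_injective (f := fun m : ℕ => (m : ℚ)) Nat.cast_injective))
      rintro _ ⟨m, rfl⟩
      show R.eval (m : ℚ) = _
      have h : chi k L (CohB1.tensorMod F (CohB1.tensorPow L a)) m = chi k L F m + chi k L (cokernel ψ) m :=
        chi_add hL.1 hS hF hG hC m
      rw [chi_tensorPow hL.1 F a m] at h
      have h1 : (chi k L F m : ℚ) = P.eval (m : ℚ) := hP m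
      have h2 : (chi k L F (m + a) : ℚ) = P.eval ((m + a : ℕ) : ℚ) := hP (m + a)
      have h3 : (chi k L (cokernel ψ) m : ℚ) = R.eval (m : ℚ) := hR m
      rw [Polynomial.eval_sub, Polynomial.taylor_eval, ← h1, ← h3, ← Nat.cast_add, ← h2, h]
      push_cast
      ring
    have hdeg : ∀ n, d + 1 < n → P.coeff n = 0 := fun n hn =>
      coeff_hilbPoly_eq_zero (k := k) hL hF hP (by rw [hdimF]; exact hlt) hn
    rcases (coeff_nonneg_of_eventually hdeg (eval_nonneg (k := k) hL hF hP)).lt_or_eq with h | h
    · exact h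
    refine absurd ?_ hRpos.ne'
    rw [hRe]
    refine coeff_taylor_sub P _ (Polynomial.natDegree_le_iff_coeff_eq_zero.2 fun n hn => ?_)
    rcases Nat.lt_or_ge (d + 1) n with h' | h'
    · exact hdeg n h'
    · obtain rfl : n = d + 1 := by omega
      exact h.symm

/-- The multiplicity of a nonzero pure module is positive. -/
theorem alpha_pos (hL : CohB1.IsAmple L) {F : X.Modules} (hF : Coh.IsCoh F) (h0 : ¬ IsZero F) {d : ℕ}
    (hpure : ShStab.IsPure X F d) {P : Polynomial ℚ} (hP : ShStab.IsHilbPoly k X L F P) :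
    0 < StabCat.alpha d P :=
  mul_pos (Nat.cast_pos.2 d.factorial_pos) (coeff_pos k hL d F hF (hpure F (𝟙 F) inferInstance hF h0) P hP)

end field

end Groth.Agent.H25Euler
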