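import Mathlib.Topology.KrullDimension
import Mathlib.Topology.NoetherianSpace
import Mathlib.Topology.Sober
import Mathlib.Algebra.Polynomial.Taylor
import Mathlib.Algebra.Polynomial.HasseDeriv
import Mathlib.Algebra.BigOperators.Fin
import Groth.Agent.H17.Dim

/-!
# Iterated differences and dimension drop
-/

set_option autoImplicit false

open TopologicalSpace Order

namespace Groth.Agent.H25Euler

/-- Killed by `d` iterated difference operators with positive steps. -/
def Kill : ℕ → (ℕ → ℤ) → Prop
  | 0, f => ∀ m, f m = 0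
  | d + 1, f => ∃ a, 0 < a ∧ Kill d (fun m => f (m + a) - f m)

theorem kill_zero : ∀ d : ℕ, Kill d (fun _ => 0)
  | 0 => fun _ => rfl
  | d + 1 => ⟨1, one_pos, by simpa using kill_zero d⟩

theorem kill_props (d : ℕ) : (∀ f (s : ℕ), Kill d f → Kill d (fun m => f (m + s))) ∧
    (∀ f g, Kill d f → Kill d g → Kill d (fun m => f m + g m)) ∧
    (∀ f, Kill d f → Kill d (fun m => - f m)) := by
  induction d with
  | zero =>
    exact ⟨fun f s h m => h _, fun f g hf hg m => by simp [hf m, hg m], fun f h m => by simp [h m]⟩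
  | succ d ih =>
    obtain ⟨hs, ha, hn⟩ := ih
    have hmul : ∀ (f : ℕ → ℤ) (a : ℕ), Kill d (fun m => f (m + a) - f m) → ∀ b : ℕ,
        Kill d (fun m => f (m + a * b) - f m) := by
      intro f a h b
      induction b with
      | zero => simpa using kill_zero d
      | succ b ihb =>
        have := ha _ _ (hs _ (a * b) h) ihb
        refine (congrArg (Kill d) (funext fun m => ?_)).mp this
        rw [Nat.mul_succ]
        simp only [add_assoc, add_comm a (a * b)]
        abel
    refine ⟨?_, ?_, ?_⟩
    · rintro f s ⟨a, ha0, h⟩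
      refine ⟨a, ha0, (congrArg (Kill d) (funext fun m => ?_)).mp (hs _ s h)⟩
      simp only [add_right_comm]
    · rintro f g ⟨a, ha0, hf⟩ ⟨b, hb0, hg⟩
      refine ⟨a * b, mul_pos ha0 hb0, (congrArg (Kill d) (funext fun m => ?_)).mp
        (ha _ _ (hmul f a hf b) (hmul g b hg a))⟩
      rw [mul_comm b a]
      ring
    · rintro f ⟨a, ha0, h⟩
      refine ⟨a, ha0, (congrArg (Kill d) (funext fun m => ?_)).mp (hn _ h)⟩
      ring

theorem Kill.add {d : ℕ} {f g : ℕ → ℤ} (hf : Kill d f) (hg : Kill d g) : Kill d (fun m => f m + g m) :=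
  (kill_props d).2.1 f g hf hg

theorem Kill.neg {d : ℕ} {f : ℕ → ℤ} (hf : Kill d f) : Kill d (fun m => - f m) :=
  (kill_props d).2.2 f hf

open Polynomial in
/-- A polynomial function killed by `d` differences has degree `< d`. -/
theorem coeff_eq_zero_of_kill (d : ℕ) : ∀ (f : ℕ → ℤ) (P : ℚ[X]), Kill d f →
    (∀ m : ℕ, P.eval (m : ℚ) = (f m : ℚ)) → ∀ n, d ≤ n → P.coeff n = 0 := by
  induction d with
  | zero =>
    intro f P hf hP n _
    have : P = 0 := Polynomial.eq_zero_of_infinite_isRoot P
      (Set.Infinite.mono (by rintro _ ⟨m, rfl⟩; simp [Polynomial.IsRoot, hP m, hf m])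
        (Set.infinite_range_of_injective (f := fun m : ℕ => (m : ℚ)) Nat.cast_injective))
    simp [this]
  | succ d ih =>
    rintro f P ⟨a, ha0, hf⟩ hP n hn
    by_contra hne
    have hdeg : d + 1 ≤ P.natDegree := hn.trans (le_natDegree_of_ne_zero hne)
    obtain ⟨N, hN⟩ : ∃ N, P.natDegree = N + 1 := ⟨P.natDegree - 1, by omega⟩
    have h0 := ih _ (taylor (a : ℚ) P - P) hf (fun m => by
      rw [eval_sub, taylor_eval, hP m, ← Nat.cast_add, hP (m + a)]
      push_cast; ring) N (by omega)
    rw [coeff_sub, taylor_coeff, sub_eq_zero] at h0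
    have hle : (hasseDeriv N P).natDegree < 2 := by
      have h := natDegree_hasseDeriv_le P N
      omega
    rw [eval_eq_sum_range' hle, Finset.sum_range_succ, Finset.sum_range_one, hasseDeriv_coeff,
      hasseDeriv_coeff] at h0
    simp only [zero_add, Nat.choose_self, Nat.cast_one, one_mul, pow_zero, mul_one, pow_one] at h0
    have hlead : P.coeff (N + 1) ≠ 0 := by
      rw [← hN]
      exact fun h => hne (by rw [leadingCoeff_eq_zero.1 h, coeff_zero])
    rw [add_comm 1 N] at h0
    have : ((N + 1).choose N : ℚ) * P.coeff (N + 1) * (a : ℚ) = 0 := by linarith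
    exact mul_ne_zero (mul_ne_zero (Nat.cast_ne_zero.2 (Nat.choose_pos (Nat.le_succ N)).ne') hlead)
      (Nat.cast_ne_zero.2 ha0.ne') this

attribute [local instance] specializationOrder

theorem dim_lt_aux {Y T : Type*} [TopologicalSpace Y] [QuasiSober Y] [T0Space Y] [TopologicalSpace T]
    [QuasiSober T] [T0Space T] (ι : T → Y) (hι : Continuous ι) (hinj : Function.Injective ι)
    (hZ : ∀ t, ∃ η, η ⤳ ι t ∧ η ∉ Set.range ι) {d : ℕ}
    (hY : topologicalKrullDim Y < ((d + 1 : ℕ) : WithBot ℕ∞)) :
    topologicalKrullDim T < (d : WithBot ℕ∞) := by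
  rw [H17.topologicalKrullDim_eq_krullDim_specialization] at hY ⊢
  have key : ∀ p : LTSeries T, p.length < d := by
    intro p
    let q : LTSeries Y := p.map ι fun x y hxy => lt_of_le_of_ne
      (hxy.le.map hι) fun e => hxy.ne (hinj e)
    obtain ⟨η, hη, hηS⟩ := hZ p.last
    have hlast : q.last = ι p.last := LTSeries.last_map _ _ _
    have hlt : q.last < η := lt_of_le_of_ne (hlast ▸ hη) fun e => hηS ⟨p.last, hlast ▸ e⟩
    have h1 : ((q.snoc η hlt).length : WithBot ℕ∞) ≤ krullDim Y := LTSeries.length_le_krullDim _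
    have h2 := h1.trans_lt hY
    have h3 : (q.snoc η hlt).length < d + 1 := by exact_mod_cast h2
    simp [q] at h3
    exact h3
  rcases d with _ | e
  · haveI : IsEmpty T := ⟨fun y => absurd (key (RelSeries.singleton _ y)) (by simp)⟩
    rw [krullDim_eq_bot]
    exact WithBot.bot_lt_coe _
  · refine lt_of_le_of_lt (iSup_le fun p => ?_) (b := ((e : ℕ) : WithBot ℕ∞)) (by exact_mod_cast Nat.lt_succ_self e)
    exact_mod_cast Nat.le_of_lt_succ (key p)

/-- A closed subset missing the generic points of all components has smaller dimension. -/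
theorem dim_lt_of_forall_ne {Y : Type*} [TopologicalSpace Y] [QuasiSober Y] [T0Space Y] (S : Set Y)
    (hS : IsClosed S) (hZ : ∀ y ∈ S, ∃ η, η ⤳ y ∧ η ∉ S) {d : ℕ}
    (hY : topologicalKrullDim Y < ((d + 1 : ℕ) : WithBot ℕ∞)) :
    topologicalKrullDim S < (d : WithBot ℕ∞) := by
  haveI : QuasiSober S := hS.isClosedEmbedding_subtypeVal.quasiSober
  exact dim_lt_aux Subtype.val continuous_subtype_val Subtype.val_injective
    (fun t => by simpa [Subtype.range_val] using hZ t.1 t.2) hY

/-- In a Noetherian sober space there are finitely many generic points of components. -/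
theorem exists_finite_generizing (Y : Type*) [TopologicalSpace Y] [NoetherianSpace Y] [QuasiSober Y] :
    ∃ Z : Set Y, Z.Finite ∧ ∀ y : Y, ∃ η ∈ Z, η ⤳ y := by
  refine ⟨Set.range fun C : irreducibleComponents Y => C.2.1.genericPoint, ?_, fun y => ?_⟩
  · haveI : Finite (irreducibleComponents Y) := NoetherianSpace.finite_irreducibleComponents
    exact Set.finite_range _
  · refine ⟨_, ⟨⟨irreducibleComponent y, irreducibleComponent_mem_irreducibleComponents y⟩, rfl⟩, ?_⟩
    have hg := (isIrreducible_irreducibleComponent (x := y)).isGenericPoint_genericPoint_closure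
    rw [isClosed_irreducibleComponent.closure_eq] at hg
    exact hg.specializes mem_irreducibleComponent

end Groth.Agent.H25Euler
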