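import Groth.Agent.H25Euler.Additive
import Groth.Agent.H25Euler.Kill
import Groth.Agent.H10Coh.SerreVanishing
import Groth.Agent.H10Coh.FinType2
import Groth.Agent.H10Coh.Support
import Groth.Agent.H10Coh.TensorBasics
import Groth.Agent.H11Ample.Ample
import Groth.Agent.H11Ample.Twist
import Groth.Agent.H16Derived.KFlat.SheafTensor
import Groth.Agent.H16Derived.KFlat.FinLocFree
import Groth.Agent.H28Pinch.DirectImageTrivial
import Groth.Prelude.Def_ShStab

/-!
# The degree of Hilbert polynomials is bounded by the dimension of the support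
-/

set_option autoImplicit false
set_option linter.style.haveILetI false
universe u

open CategoryTheory CategoryTheory.Limits AlgebraicGeometry Opposite TopologicalSpace MonoidalCategory
open Groth.Agent

namespace Groth.Agent.H25Euler

variable {X : Scheme.{u}}

theorem tensorBi_obj_obj (F M : X.Modules) :
    ((DCoh.tensorBi (X := X)).obj F).obj M = CohB1.tensorMod F M := rfl

theorem tensorBi_flip_obj (F M : X.Modules) :
    ((DCoh.tensorBi (X := X)).flip.obj M).obj F = CohB1.tensorMod F M := rfl

theorem notMem_support_iff (M : X.Modules) (x : X) :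
    x ∉ CohB1.support M ↔ IsZero ((DerSch.stalkFunctor X x).obj M) := by
  rw [ModuleCat.isZero_iff_subsingleton]
  exact not_not

theorem isIso_stalk_of_mem_genLocus {L : X.Modules} (s : Coh.structureModule X ⟶ L) {x : X}
    (hx : x ∈ CohB1.genLocus L s) : IsIso ((DerSch.stalkFunctor X x).map s) := by
  obtain ⟨U, hU, hxU⟩ := Opens.mem_sSup.1 hx
  let V : X.Opens := U
  haveI : IsIso ((Scheme.Modules.restrictFunctor V.ι).map s) := hU
  haveI h0 : IsIso ((Scheme.Modules.restrictFunctor V.ι ⋙ Scheme.Modules.toPresheaf _ ⋙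
      TopCat.Presheaf.stalkFunctor AddCommGrpCat.{u} (⟨x, hxU⟩ : V.toScheme)).map s) := by
    rw [Functor.comp_map]; infer_instance
  have h := (NatIso.isIso_map_iff (Scheme.Modules.restrictStalkNatIso V.ι (⟨x, hxU⟩ : V.toScheme)) s).1 h0
  have hb := ConcreteCategory.bijective_of_isIso
    ((Scheme.Modules.toPresheaf X ⋙ TopCat.Presheaf.stalkFunctor AddCommGrpCat.{u} (V.ι (⟨x, hxU⟩ : V.toScheme))).map s)
  rw [ConcreteCategory.isIso_iff_bijective]
  exact hb

theorem support_tensor_subset (F M : X.Modules) :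
    CohB1.support (CohB1.tensorMod F M) ⊆ CohB1.support F := by
  intro x hx
  by_contra hF
  refine ((notMem_support_iff _ x).2 ?_) hx
  refine IsZero.of_iso ?_ ((H16Derived.KFlat.Stalk.rightIso M x).app F)
  haveI := (notMem_support_iff F x).1 hF
  exact (tensorRight _).map_isZero this

section sect

variable {L : X.Modules} (F : X.Modules) (s : Coh.structureModule X ⟶ L)

/-- Multiplication by a section. -/
noncomputable def mulHom : F ⟶ CohB1.tensorMod F L :=
  (H10Coh.Tw.rightUnitIso F).inv ≫ eqToHom (tensorBi_obj_obj F _).symm ≫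
    ((DCoh.tensorBi (X := X)).obj F).map s ≫ eqToHom (tensorBi_obj_obj F L)

theorem isIso_stalk_mulHom {x : X} (hx : x ∈ CohB1.genLocus L s) :
    IsIso ((DerSch.stalkFunctor X x).map (mulHom F s)) := by
  have h1 := isIso_stalk_of_mem_genLocus s hx
  have h2 : IsIso ((((DCoh.tensorBi (X := X)).obj F) ⋙ DerSch.stalkFunctor X x).map s) := by
    rw [NatIso.isIso_map_iff (H16Derived.KFlat.Stalk.leftIso F x) s]
    exact inferInstanceAs (IsIso ((tensorLeft _).map _))
  rw [mulHom, Functor.map_comp, Functor.map_comp, Functor.map_comp]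
  haveI : IsIso ((DerSch.stalkFunctor X x).map (((DCoh.tensorBi (X := X)).obj F).map s)) := h2
  infer_instance

end sect

theorem support_X₁_X₃ {S : ShortComplex X.Modules} (hS : S.ShortExact) :
    CohB1.support S.X₁ ⊆ CohB1.support S.X₂ ∧ CohB1.support S.X₃ ⊆ CohB1.support S.X₂ := by
  constructor <;> intro x hx <;> by_contra h
  · have hz := (notMem_support_iff S.X₂ x).1 h
    haveI : Mono ((DerSch.stalkFunctor X x).map S.f) := (hS.map_of_exact (DerSch.stalkFunctor X x)).mono_f
    exact (notMem_support_iff _ x).2 (IsZero.of_mono ((DerSch.stalkFunctor X x).map S.f) hz) hx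
  · have hz := (notMem_support_iff S.X₂ x).1 h
    haveI : Epi ((DerSch.stalkFunctor X x).map S.g) := (hS.map_of_exact (DerSch.stalkFunctor X x)).epi_g
    exact (notMem_support_iff _ x).2 (IsZero.of_epi ((DerSch.stalkFunctor X x).map S.g) hz) hx

theorem notMem_support_kernel_cokernel {F G : X.Modules} (φ : F ⟶ G) {x : X}
    (hφ : IsIso ((DerSch.stalkFunctor X x).map φ)) :
    x ∉ CohB1.support (kernel φ) ∧ x ∉ CohB1.support (cokernel φ) := by
  let π := cokernel.π φ
  have hS₁ : (ShortComplex.mk (kernel.ι φ) (cokernel.π (kernel.ι φ)) (cokernel.condition _)).ShortExact :=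
    { exact := ShortComplex.exact_cokernel _ }
  haveI := hφ
  constructor
  · rw [notMem_support_iff]
    haveI := (hS₁.map_of_exact (DerSch.stalkFunctor X x)).mono_f
    haveI : Mono ((DerSch.stalkFunctor X x).map (kernel.ι φ)) := this
    rw [IsZero.iff_id_eq_zero, ← cancel_mono ((DerSch.stalkFunctor X x).map (kernel.ι φ)), zero_comp,
      Category.id_comp, ← cancel_mono ((DerSch.stalkFunctor X x).map φ), ← Functor.map_comp,
      kernel.condition, zero_comp, Functor.map_zero]
  · rw [notMem_support_iff]
    have hE : (ShortComplex.mk (kernel.ι π) π (kernel.condition _)).ShortExact :=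
      { exact := ShortComplex.exact_kernel _ }
    haveI := (hE.map_of_exact (DerSch.stalkFunctor X x)).epi_g
    haveI : Epi ((DerSch.stalkFunctor X x).map π) := this
    rw [IsZero.iff_id_eq_zero, ← cancel_epi ((DerSch.stalkFunctor X x).map π), comp_zero,
      Category.comp_id, ← cancel_epi ((DerSch.stalkFunctor X x).map φ), ← Functor.map_comp,
      cokernel.condition, comp_zero, Functor.map_zero]

section euler

variable {k : Type u} [Field k] [X.Over (Spec (CommRingCat.of k))] {L : X.Modules}

/-- The Hilbert function. -/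
noncomputable def chi (k : Type u) [Field k] [X.Over (Spec (CommRingCat.of k))] (L F : X.Modules) (m : ℕ) : ℤ :=
  Curv2.euler k X (ShStab.twist X L F m)

theorem chi_congr {F G : X.Modules} (e : F ≅ G) (m : ℕ) : chi k L F m = chi k L G m :=
  euler_congr ((eqToIso (tensorBi_flip_obj F (CohB1.tensorPow L m)).symm ≪≫
    ((DCoh.tensorBi (X := X)).flip.obj (CohB1.tensorPow L m)).mapIso e ≪≫ eqToIso (tensorBi_flip_obj G _)) :
      ShStab.twist X L F m ≅ ShStab.twist X L G m)

theorem chi_tensorPow (hL : PicF.IsInvertible L) (F : X.Modules) (a m : ℕ) :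
    chi k L (CohB1.tensorMod F (CohB1.tensorPow L a)) m = chi k L F (m + a) := by
  obtain ⟨φ, -⟩ := H11Ample.exists_iso_add hL a m
  rw [add_comm m a]
  exact euler_congr ((H10Coh.Tw.assoc F (CohB1.tensorPow L a) (CohB1.tensorPow L m) ≪≫
    eqToIso (tensorBi_obj_obj F _).symm ≪≫ ((DCoh.tensorBi (X := X)).obj F).mapIso φ ≪≫
    eqToIso (tensorBi_obj_obj F _)))

theorem euler_eq_zero_of_isZero {M : X.Modules} (hM : IsZero M) : Curv2.euler k X M = 0 := by
  refine (finsum_congr fun i => ?_).trans finsum_zero
  haveI : Subsingleton (Coh.HH X M i) := by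
    refine ⟨fun a b => ?_⟩
    apply (H10Coh.HHEquiv M i).injective
    have key : ∀ x : H10Coh.HnM M i ⊤, x = 0 := fun x => by
      rw [← H10Coh.postH_id i ⊤ x, ← CategoryTheory.Functor.map_id, hM.eq_of_src (𝟙 M) 0, Functor.map_zero,
        H10Coh.postH_zero]
    rw [key (H10Coh.HHEquiv M i a), key (H10Coh.HHEquiv M i b)]
  rw [Module.finrank_zero_of_subsingleton]; simp

variable [IsProper (X ↘ Spec (CommRingCat.of k))]

theorem chi_add (hL : PicF.IsInvertible L) {S : ShortComplex X.Modules} (hS : S.ShortExact)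
    (h₁ : Coh.IsCoh S.X₁) (h₂ : Coh.IsCoh S.X₂) (h₃ : Coh.IsCoh S.X₃) (m : ℕ) :
    chi k L S.X₂ m = chi k L S.X₁ m + chi k L S.X₃ m := by
  have hP := H11Ample.isInvertible_tensorPow hL m
  have hflat : FlatMod.IsFlat (CohB1.tensorPow L m) :=
    H16Derived.KFlat.Stalk.isFlat_of_isFinLocFree (H28Pinch.isFinLocFree_of_isInvertible hP)
  let T := (DCoh.tensorBi (X := X)).flip.obj (CohB1.tensorPow L m)
  have hS' : (S.map T).ShortExact := H16Derived.KFlat.Stalk.isFlatObj_of_isFlat hflat S hS
  exact euler_add (k := k) (X := X) (S := S.map T) hS'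
    (show Coh.IsCoh (T.obj S.X₁) from H11Ample.isCoh_tensor h₁ hP)
    (show Coh.IsCoh (T.obj S.X₂) from H11Ample.isCoh_tensor h₂ hP)
    (show Coh.IsCoh (T.obj S.X₃) from H11Ample.isCoh_tensor h₃ hP)

/-- Hilbert functions of modules with small support are killed by few differences. -/
theorem kill_chi (hL : CohB1.IsAmple L) (d : ℕ) : ∀ F : X.Modules, Coh.IsCoh F →
    topologicalKrullDim (CohB1.support F) < (d : WithBot ℕ∞) → Kill d (chi k L F) := by
  induction d with
  | zero =>
    intro F hF hdim m
    have hempty : IsEmpty (CohB1.support F) := by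
      by_contra hne
      rw [not_isEmpty_iff] at hne
      haveI := hne
      refine absurd hdim (not_lt.2 ?_)
      obtain ⟨x⟩ := hne
      haveI : Nonempty (IrreducibleCloseds (CohB1.support F)) :=
        ⟨⟨closure {x}, isIrreducible_singleton.closure, isClosed_closure⟩⟩
      exact Order.krullDim_nonneg
    have hz : IsZero F := H16Derived.KFlat.Stalk.isZero_of_stalk fun x =>
      (notMem_support_iff F x).1 fun hx => hempty.false ⟨x, hx⟩
    exact euler_eq_zero_of_isZero (M := ShStab.twist X L F m)
      ((((DCoh.tensorBi (X := X)).flip.obj (CohB1.tensorPow L m)).map_isZero hz).of_iso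
        (eqToIso (tensorBi_flip_obj F (CohB1.tensorPow L m)).symm))
  | succ d ih =>
    intro F hF hdim
    haveI : CompactSpace X := hL.2.1
    haveI : QuasiSeparatedSpace X := quasiSeparatedSpace_of_quasiSeparated (X ↘ Spec (CommRingCat.of k))
    haveI : IsLocallyNoetherian X := LocallyOfFiniteType.isLocallyNoetherian (X ↘ Spec (CommRingCat.of k))
    haveI : IsNoetherian X := {}
    have hYc : IsClosed (CohB1.support F) := H10Coh.isClosed_support F hF.2
    haveI : QuasiSober (CohB1.support F) := hYc.isClosedEmbedding_subtypeVal.quasiSober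
    obtain ⟨Z, hZf, hZ⟩ := exists_finite_generizing (CohB1.support F)
    obtain ⟨a, σ, ha, hσ, -, -⟩ := H11Ample.exists_affine_gen_nhd_finite hL (hZf.image Subtype.val)
      (U := ⊤) (fun _ _ => trivial)
    let φ := mulHom F (H11Tilde.homOfGlobal (CohB1.tensorPow L a) σ)
    have hG : Coh.IsCoh (CohB1.tensorMod F (CohB1.tensorPow L a)) :=
      H11Ample.isCoh_tensor hF (H11Ample.isInvertible_tensorPow hL.1 a)
    have hK := H10Coh.isCoh_kernel φ hF hG.1
    have hC := H10Coh.isCoh_cokernel φ hF.1 hG
    have hI := H10Coh.isCoh_kernel (cokernel.π φ) hG hC.1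
    have hS₁ : (ShortComplex.mk (kernel.ι φ) (Abelian.factorThruImage φ)
        (by rw [← cancel_mono (Abelian.image.ι φ), Category.assoc, Abelian.image.fac, kernel.condition,
          zero_comp])).ShortExact :=
      { exact := ShortComplex.exact_of_f_is_kernel _ (KernelFork.IsLimit.ofι' _ _ fun g hg =>
          ⟨kernel.lift φ g (by
            rw [← Abelian.image.fac φ, ← Category.assoc, hg, zero_comp]), kernel.lift_ι _ _ _⟩)
        epi_g := inferInstanceAs (Epi (Abelian.factorThruImage φ)) }
    have hS₂ : (ShortComplex.mk (kernel.ι (cokernel.π φ)) (cokernel.π φ) (kernel.condition _)).ShortExact :=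
      { exact := ShortComplex.exact_kernel _ }
    have hsub : ∀ M : X.Modules, Coh.IsCoh M → CohB1.support M ⊆ CohB1.support F →
        (∀ x ∈ CohB1.genLocus _ (H11Tilde.homOfGlobal (CohB1.tensorPow L a) σ), x ∉ CohB1.support M) →
        Kill d (chi k L M) := by
      intro M hM hle hgen
      refine ih M hM ?_
      have h := dim_lt_of_forall_ne (Y := CohB1.support F) (Subtype.val ⁻¹' CohB1.support M)
        ((H10Coh.isClosed_support M hM.2).preimage continuous_subtype_val) (fun y hy => ?_) hdim
      · let e : CohB1.support M ≃ₜ (Subtype.val ⁻¹' CohB1.support M : Set (CohB1.support F)) :=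
          { toFun := fun x => ⟨⟨x.1, hle x.2⟩, x.2⟩
            invFun := fun x => ⟨x.1.1, x.2⟩
            left_inv := fun _ => rfl
            right_inv := fun _ => rfl }
        rwa [e.isHomeomorph.topologicalKrullDim_eq]
      · obtain ⟨η, hη, hηy⟩ := hZ y
        exact ⟨η, hηy, hgen _ (hσ ⟨η, hη, rfl⟩)⟩
    have hφ := fun x hx => notMem_support_kernel_cokernel φ (x := x) (isIso_stalk_mulHom F _ hx)
    have k1 := hsub _ hK (support_X₁_X₃ hS₁).1 fun x hx => (hφ x hx).1
    have k3 := hsub _ hC ((support_X₁_X₃ hS₂).2.trans (support_tensor_subset _ _)) fun x hx => (hφ x hx).2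
    refine ⟨a, ha, (congrArg (Kill d) (funext fun m => ?_)).mp (k3.add k1.neg)⟩
    have e1 := chi_add (k := k) hL.1 hS₁ hK hF hI m
    have e2 := chi_add (k := k) hL.1 hS₂ hI hG hC m
    rw [← chi_tensorPow hL.1 F a m]
    change chi k L F m = _ at e1
    change chi k L (CohB1.tensorMod F (CohB1.tensorPow L a)) m = _ at e2
    rw [e1, e2]
    show _ = _ + _ - (_ + chi k L (kernel (cokernel.π φ)) m)
    ring

/-- The degree of a Hilbert polynomial is less than any strict bound on the dimension of the support. -/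
theorem coeff_hilbPoly_eq_zero (hL : CohB1.IsAmple L) {F : X.Modules} (hF : Coh.IsCoh F) {P : Polynomial ℚ}
    (hP : ShStab.IsHilbPoly k X L F P) {d : ℕ}
    (hd : topologicalKrullDim (CohB1.support F) < (d : WithBot ℕ∞)) {n : ℕ} (hn : d ≤ n) : P.coeff n = 0 :=
  coeff_eq_zero_of_kill d _ P (kill_chi (k := k) hL d F hF hd) (fun m => (hP m).symm) n hn

end euler

end Groth.Agent.H25Euler
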