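import Groth.Agent.H25Euler.Degree
import Groth.Agent.H10Coh.SerreVanishing2
import Groth.Agent.LeadDev.Rules
import Groth.Prelude.Def_ParBun
import Groth.Prelude.Def_W4swparbununimodPar

/-!
# Hilbert polynomials of the pieces of a parabolic structure
-/

set_option autoImplicit false
set_option linter.style.haveILetI false
universe u

open CategoryTheory CategoryTheory.Limits AlgebraicGeometry Opposite TopologicalSpace MonoidalCategory
open Groth.Agent

namespace Groth.Agent.H25Euler

variable {k : Type u} [Field k] {X : Scheme.{u}} [X.Over (Spec (CommRingCat.of k))]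
  [IsProper (X ↘ Spec (CommRingCat.of k))] {L : X.Modules}

theorem chi_nonneg (hL : CohB1.IsAmple L) {F : X.Modules} (hF : Coh.IsCoh F) :
    ∃ N : ℕ, ∀ m, N ≤ m → 0 ≤ chi k L F m := by
  obtain ⟨N, hN⟩ := H10Coh.Tw.exists_vanishing_ample (X ↘ Spec (CommRingCat.of k)) hL F hF
  refine ⟨N, fun m hm => ?_⟩
  show 0 ≤ ∑ᶠ i : ℕ, (-1 : ℤ) ^ i * (Module.finrank k (Coh.HH X (ShStab.twist X L F m) i) : ℤ)
  refine finsum_nonneg fun i => ?_
  rcases Nat.eq_zero_or_pos i with rfl | hi
  · simp
  · haveI : Subsingleton (Coh.HH X (ShStab.twist X L F m) i) :=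
      (H10Coh.HHEquiv (ShStab.twist X L F m) i).toEquiv.subsingleton_congr.2 (hN m hm i hi)
    rw [Module.finrank_zero_of_subsingleton]; simp

theorem eval_nonneg (hL : CohB1.IsAmple L) {F : X.Modules} (hF : Coh.IsCoh F) {P : Polynomial ℚ}
    (hP : ShStab.IsHilbPoly k X L F P) : ∃ N : ℕ, ∀ m, N ≤ m → 0 ≤ P.eval (m : ℚ) := by
  obtain ⟨N, hN⟩ := chi_nonneg (k := k) hL hF
  exact ⟨N, fun m hm => by rw [← hP m]; exact_mod_cast hN m hm⟩

/-- An eventually nonnegative polynomial has nonnegative coefficient in a degree bounding its degree. -/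
theorem coeff_nonneg_of_eventually {P : Polynomial ℚ} {e : ℕ} (hdeg : ∀ n, e < n → P.coeff n = 0)
    (hev : ∃ N : ℕ, ∀ m, N ≤ m → 0 ≤ P.eval (m : ℚ)) : 0 ≤ P.coeff e := by
  by_contra hneg
  rw [not_le] at hneg
  obtain ⟨N, hN⟩ := hev
  have hle : P.natDegree ≤ e := Polynomial.natDegree_le_iff_coeff_eq_zero.2 hdeg
  rcases Nat.eq_zero_or_pos e with rfl | he
  · have h := hN N le_rfl
    rw [Polynomial.eq_C_of_natDegree_le_zero hle, Polynomial.eval_C] at h
    exact absurd h (not_le.2 hneg)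
  · have hd : P.natDegree = e := le_antisymm hle (Polynomial.le_natDegree_of_ne_zero hneg.ne)
    have hlc : P.leadingCoeff < 0 := by rw [Polynomial.leadingCoeff, hd]; exact hneg
    have ht := (Polynomial.tendsto_atBot_of_leadingCoeff_nonpos P
      (by rw [Polynomial.degree_eq_natDegree (by rintro rfl; simp at hneg), hd]; exact_mod_cast he) hlc.le).comp
      tendsto_natCast_atTop_atTop
    obtain ⟨M, hM⟩ := Filter.eventually_atTop.1 (ht.eventually (Filter.eventually_lt_atBot (0 : ℚ)))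
    exact absurd (hN (max N M) (le_max_left _ _)) (not_le.2 (hM _ (le_max_right _ _)))

/-- A submodule has eventually smaller Hilbert polynomial. -/
theorem polyLE_of_mono (hL : CohB1.IsAmple L) {E E' : X.Modules} (hE : Coh.IsCoh E) (hE' : Coh.IsCoh E')
    (ι : E ⟶ E') [Mono ι] {P P' : Polynomial ℚ} (hP : ShStab.IsHilbPoly k X L E P)
    (hP' : ShStab.IsHilbPoly k X L E' P') :
    (∃ N : ℕ, ∀ m, N ≤ m → P.eval (m : ℚ) ≤ P'.eval (m : ℚ)) ∧ ShStab.IsHilbPoly k X L (cokernel ι) (P' - P) := by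
  have hS : (ShortComplex.mk ι (cokernel.π ι) (cokernel.condition _)).ShortExact :=
    { exact := ShortComplex.exact_cokernel _ }
  have hC := H10Coh.isCoh_cokernel ι hE.1 hE'
  have hq : ShStab.IsHilbPoly k X L (cokernel ι) (P' - P) := fun m => by
    rw [Polynomial.eval_sub, ← hP m, ← hP' m]
    have h : chi k L E' m = chi k L E m + chi k L (cokernel ι) m := chi_add hL.1 hS hE hE' hC m
    simp only [chi] at h
    rw [h]; push_cast; ring
  obtain ⟨N, hN⟩ := eval_nonneg (k := k) hL hC hq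
  exact ⟨⟨N, fun m hm => by have := hN m hm; rw [Polynomial.eval_sub] at this; linarith⟩, hq⟩

omit [IsProper (X ↘ Spec (CommRingCat.of k))] in
theorem support_cokernel_subset {F G : X.Modules} (φ : F ⟶ G) :
    CohB1.support (cokernel φ) ⊆ CohB1.support G := by
  intro x hx
  by_contra h
  have hS : (ShortComplex.mk (kernel.ι (cokernel.π φ)) (cokernel.π φ) (kernel.condition _)).ShortExact :=
    { exact := ShortComplex.exact_kernel _ }
  exact h ((support_X₁_X₃ hS).2 hx)

omit [X.Over (Spec (CommRingCat.of k))] [IsProper (X ↘ Spec (CommRingCat.of k))] in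
theorem isIso_stalk_idealModι (I : X.IdealSheafData) {x : X} (hx : x ∉ (I.support : Set X)) :
    IsIso ((DerSch.stalkFunctor X x).map (ClSub.idealModι I)) := by
  let S := ShortComplex.mk (kernel.ι (ClSub.toSubscheme I)) (ClSub.toSubscheme I) (kernel.condition _)
  have hE : (S.map (DerSch.stalkFunctor X x)).Exact := (ShortComplex.exact_kernel _).map _
  have hz : IsZero ((DerSch.stalkFunctor X x).obj
      ((Coh.push I.subschemeι).obj (Coh.structureModule I.subscheme))) :=
    (notMem_support_iff _ x).1 (LeadDev.notMem_support_push I.subschemeι _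
      (by rwa [I.range_subschemeι]))
  haveI hep : Epi (S.map (DerSch.stalkFunctor X x)).f := hE.epi_f (hz.eq_of_tgt _ _)
  haveI : Mono ((DerSch.stalkFunctor X x).map (kernel.ι (ClSub.toSubscheme I))) :=
    (DerSch.stalkFunctor X x).map_mono _
  haveI : Epi ((DerSch.stalkFunctor X x).map (kernel.ι (ClSub.toSubscheme I))) := hep
  exact isIso_of_mono_of_epi ((DerSch.stalkFunctor X x).map (kernel.ι (ClSub.toSubscheme I)))

omit [X.Over (Spec (CommRingCat.of k))] [IsProper (X ↘ Spec (CommRingCat.of k))] in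
theorem isIso_stalk_twistMap (I : X.IdealSheafData) (E : X.Modules) {x : X} (hx : x ∉ (I.support : Set X)) :
    IsIso ((DerSch.stalkFunctor X x).map (ParSh.twistMap I E)) := by
  have h1 := isIso_stalk_idealModι I hx
  have h2 : IsIso ((((DCoh.tensorBi (X := X)).obj E) ⋙ DerSch.stalkFunctor X x).map (ClSub.idealModι I)) := by
    rw [NatIso.isIso_map_iff (H16Derived.KFlat.Stalk.leftIso E x) (ClSub.idealModι I)]
    exact inferInstanceAs (IsIso ((tensorLeft _).map _))
  haveI : IsIso ((DerSch.stalkFunctor X x).map (((DCoh.tensorBi (X := X)).obj E).map (ClSub.idealModι I))) := h2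
  rw [ParSh.twistMap, KoszTw.tensorMap, CategoryTheory.Functor.map_id, NatTrans.id_app, Functor.map_comp]
  erw [Category.id_comp]
  exact @IsIso.comp_isIso _ _ _ _ _ _ _ h2 (Functor.map_isIso (DerSch.stalkFunctor X x) (SecTwist.unitorR E).hom)

omit [X.Over (Spec (CommRingCat.of k))] [IsProper (X ↘ Spec (CommRingCat.of k))] in
/-- The quotient by any piece lives on `Supp E ∩ Supp D`. -/
theorem support_cokernel_piece {E : X.Modules} {I : X.IdealSheafData} {𝓔 : ParSh.Str E} (h : 𝓔.Along I)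
    (j : Fin (𝓔.l + 2)) :
    CohB1.support (cokernel (𝓔.pieceX j).arrow) ⊆ CohB1.support E ∩ (I.support : Set X) := by
  intro x hx
  refine ⟨support_cokernel_subset _ hx, ?_⟩
  by_contra hI
  haveI := isIso_stalk_twistMap I E hI
  have hle : imageSubobject (ParSh.twistMap I E) ≤ 𝓔.pieceX j :=
    show ParSh.twistSub I E ≤ 𝓔.pieceX j from h ▸ 𝓔.bot_le_pieceX j
  let g : CohB1.tensorMod E (ClSub.idealMod I) ⟶ ((𝓔.pieceX j : Subobject E) : X.Modules) :=
    factorThruImageSubobject (ParSh.twistMap I E) ≫ Subobject.ofLE _ _ hle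
  have hg : g ≫ (𝓔.pieceX j).arrow = ParSh.twistMap I E := by
    show (factorThruImageSubobject (ParSh.twistMap I E) ≫
      Subobject.ofLE (imageSubobject (ParSh.twistMap I E)) _ hle) ≫ (𝓔.pieceX j).arrow = _
    rw [Category.assoc, Subobject.ofLE_arrow, imageSubobject_arrow_comp]
  haveI : IsIso ((DerSch.stalkFunctor X x).map g ≫ (DerSch.stalkFunctor X x).map (𝓔.pieceX j).arrow) := by
    rw [← Functor.map_comp, hg]; infer_instance
  haveI : Epi ((DerSch.stalkFunctor X x).map (𝓔.pieceX j).arrow) :=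
    epi_of_epi ((DerSch.stalkFunctor X x).map g) _
  haveI : Mono ((DerSch.stalkFunctor X x).map (𝓔.pieceX j).arrow) := (DerSch.stalkFunctor X x).map_mono _
  exact (notMem_support_kernel_cokernel _ (isIso_of_mono_of_epi _)).2 hx

/-- Basic data of a parabolic structure along an effective Cartier divisor. -/
theorem hilb_pieces (hL : CohB1.IsAmple L) {I : X.IdealSheafData} {E : X.Modules} (hE : Coh.IsCoh E)
    {𝓔 : ParSh.Str E} (h𝓔 : 𝓔.Along I)
    (hcoh : ∀ j, Coh.IsCoh ((𝓔.pieceX j : Subobject E) : X.Modules)) {d : ℕ}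
    (hsupp : topologicalKrullDim ↥(CohB1.support E ∩ (I.support : Set X)) < (d : WithBot ℕ∞))
    {P : Polynomial ℚ} (hP : ShStab.IsHilbPoly k X L E P) {PX : Fin (𝓔.l + 2) → Polynomial ℚ}
    (hPX : ∀ j, ShStab.IsHilbPoly k X L ((𝓔.pieceX j : Subobject E) : X.Modules) (PX j)) :
    (PX 0 = P) ∧ (∀ j n, d ≤ n → (P - PX j).coeff n = 0) ∧
      ∀ j : Fin (𝓔.l + 1), 1 ≤ d → (PX j.succ).coeff (d - 1) ≤ (PX j.castSucc).coeff (d - 1) := by
  have hdiff : ∀ j n, d ≤ n → (P - PX j).coeff n = 0 := fun j n hn => by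
    refine coeff_hilbPoly_eq_zero (k := k) hL (H10Coh.isCoh_cokernel _ (hcoh j).1 hE)
      (polyLE_of_mono hL (hcoh j) hE (𝓔.pieceX j).arrow (hPX j) hP).2 ?_ hn
    exact lt_of_le_of_lt (Topology.IsInducing.topologicalKrullDim_le
      (f := Set.inclusion (support_cokernel_piece h𝓔 j)) (Topology.IsEmbedding.inclusion _).isInducing) hsupp
  refine ⟨?_, hdiff, fun j hd => ?_⟩
  · have h0 : 𝓔.pieceX 0 = ⊤ := (𝓔.pieceX_castSucc 0).trans 𝓔.piece_zero
    haveI : IsIso (𝓔.pieceX 0).arrow := by rw [h0]; infer_instance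
    refine Polynomial.eq_of_infinite_eval_eq _ _ (Set.Infinite.mono ?_
      (Set.infinite_range_of_injective (f := fun m : ℕ => (m : ℚ)) Nat.cast_injective))
    rintro _ ⟨m, rfl⟩
    show (PX 0).eval (m : ℚ) = P.eval (m : ℚ)
    rw [← hPX 0 m, ← hP m]
    exact_mod_cast chi_congr (k := k) (L := L) (asIso (𝓔.pieceX 0).arrow) m
  · have hle : 𝓔.pieceX j.succ ≤ 𝓔.pieceX j.castSucc := by
      rcases Fin.eq_castSucc_or_eq_last j.succ with ⟨i, hi⟩ | hi
      · rw [hi, ParSh.Str.pieceX_castSucc, ParSh.Str.pieceX_castSucc]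
        exact 𝓔.piece_anti (Fin.castSucc_le_castSucc_iff.1 (hi ▸ (Fin.castSucc_lt_succ (i := j)).le))
      · rw [hi, ParSh.Str.pieceX_last, ParSh.Str.pieceX_castSucc]
        exact 𝓔.bot_le j
    obtain ⟨N, hN⟩ := (polyLE_of_mono (k := k) hL (hcoh j.succ) (hcoh j.castSucc) (Subobject.ofLE _ _ hle)
      (hPX j.succ) (hPX j.castSucc)).1
    have h := coeff_nonneg_of_eventually (P := PX j.castSucc - PX j.succ) (e := d - 1) (fun n hn => by
      have e1 := hdiff j.castSucc n (by omega)
      have e2 := hdiff j.succ n (by omega)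
      rw [Polynomial.coeff_sub] at e1 e2 ⊢
      linarith) ⟨N, fun m hm => by rw [Polynomial.eval_sub]; linarith [hN m hm]⟩
    rw [Polynomial.coeff_sub] at h
    linarith

end Groth.Agent.H25Euler
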