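import Groth.Agent.H10Coh.Proper2
import Groth.Agent.H10Coh.Bounded
import Groth.Prelude.Def_CurvBase

/-!
# Additivity of the Euler characteristic of coherent modules on a proper scheme over a field
-/

set_option autoImplicit false
universe u

open CategoryTheory CategoryTheory.Limits AlgebraicGeometry Opposite TopologicalSpace Abelian

namespace Groth.Agent.H25Euler

attribute [local instance 10000] H10Coh.hasSheafifyAb H10Coh.hasWeakSheafifyAb H10Coh.hasExtAb H10Coh.enoughInjAb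

/-- Alternating sums in a long exact sequence of finite dimensional spaces. -/
theorem alternating_sum_eq {k : Type*} [Field k] {A B C : ℕ → Type*}
    [∀ n, AddCommGroup (A n)] [∀ n, AddCommGroup (B n)] [∀ n, AddCommGroup (C n)]
    [∀ n, Module k (A n)] [∀ n, Module k (B n)] [∀ n, Module k (C n)]
    [∀ n, FiniteDimensional k (A n)] [∀ n, FiniteDimensional k (B n)] [∀ n, FiniteDimensional k (C n)]
    (f : ∀ n, A n →ₗ[k] B n) (g : ∀ n, B n →ₗ[k] C n) (δ : ∀ n, C n →ₗ[k] A (n + 1))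
    (h0 : Function.Injective (f 0))
    (hB : ∀ n, LinearMap.ker (g n) = LinearMap.range (f n))
    (hC : ∀ n, LinearMap.ker (δ n) = LinearMap.range (g n))
    (hA : ∀ n, LinearMap.ker (f (n + 1)) = LinearMap.range (δ n))
    (N : ℕ) (hN : Module.finrank k (A N) = 0) :
    ∑ n ∈ Finset.range N, (-1 : ℤ) ^ n * (Module.finrank k (B n) : ℤ) =
      ∑ n ∈ Finset.range N, (-1 : ℤ) ^ n * (Module.finrank k (A n) : ℤ) +
        ∑ n ∈ Finset.range N, (-1 : ℤ) ^ n * (Module.finrank k (C n) : ℤ) := by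
  let r : ℕ → ℤ := fun n => Module.finrank k (LinearMap.range (f n))
  let s : ℕ → ℤ := fun n => Module.finrank k (LinearMap.range (g n))
  let t : ℕ → ℤ := fun n => Module.finrank k (LinearMap.range (δ n))
  have eB : ∀ n, (Module.finrank k (B n) : ℤ) = r n + s n := fun n => by
    have h := LinearMap.finrank_range_add_finrank_ker (g n)
    rw [hB] at h
    simp only [r, s]; omega
  have eC : ∀ n, (Module.finrank k (C n) : ℤ) = s n + t n := fun n => by
    have h := LinearMap.finrank_range_add_finrank_ker (δ n)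
    rw [hC] at h
    simp only [s, t]; omega
  have eA : ∀ n, (Module.finrank k (A (n + 1)) : ℤ) = t n + r (n + 1) := fun n => by
    have h := LinearMap.finrank_range_add_finrank_ker (f (n + 1))
    rw [hA] at h
    simp only [r, t]; omega
  have eA0 : (Module.finrank k (A 0) : ℤ) = r 0 := by
    simp only [r, LinearMap.finrank_range_of_inj h0]
  have key : ∀ M, ∑ n ∈ Finset.range M, (-1 : ℤ) ^ n *
      ((Module.finrank k (B n) : ℤ) - Module.finrank k (A n) - Module.finrank k (C n)) =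
      if M = 0 then 0 else (-1 : ℤ) ^ M * t (M - 1) := by
    intro M
    induction M with
    | zero => simp
    | succ M ih =>
      rw [Finset.sum_range_succ, ih]
      rcases M with _ | M
      · simp [eB, eC, eA0]
      · simp only [Nat.succ_ne_zero, if_false, Nat.add_sub_cancel, eB, eC, eA]
        ring
  rw [← Finset.sum_add_distrib, ← sub_eq_zero, ← Finset.sum_sub_distrib]
  have h1 : ∀ n ∈ Finset.range N, (-1 : ℤ) ^ n * (Module.finrank k (B n) : ℤ) -
      ((-1 : ℤ) ^ n * (Module.finrank k (A n) : ℤ) + (-1 : ℤ) ^ n * (Module.finrank k (C n) : ℤ)) =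
      (-1 : ℤ) ^ n * ((Module.finrank k (B n) : ℤ) - Module.finrank k (A n) - Module.finrank k (C n)) :=
    fun n _ => by ring
  rw [Finset.sum_congr rfl h1, key N]
  rcases N with _ | N
  · simp
  · simp only [Nat.succ_ne_zero, if_false, Nat.add_sub_cancel, t]
    have h : Module.finrank k (LinearMap.range (δ N)) = 0 :=
      Nat.le_zero.1 (hN ▸ Submodule.finrank_le _)
    rw [h]; simp

/-- The long cohomology sequence on a space, with an action of a field. -/
theorem alternating_sum_space {T : TopCat.{u}} {k : Type u} [Field k] {S : ShortComplex (CohTop.Ab T)}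
    (σ : H10Coh.ActSeq k S) (hS : S.ShortExact) (U : Opens T)
    (h₁ : ∀ n, σ.a₁.Fin n U) (h₂ : ∀ n, σ.a₂.Fin n U) (h₃ : ∀ n, σ.a₃.Fin n U)
    (N : ℕ) (hN : Subsingleton (H10Coh.Hn S.X₁ N U)) :
    letI := fun n => σ.a₁.mod n U
    letI := fun n => σ.a₂.mod n U
    letI := fun n => σ.a₃.mod n U
    ∑ n ∈ Finset.range N, (-1 : ℤ) ^ n * (Module.finrank k (H10Coh.Hn S.X₂ n U) : ℤ) =
      ∑ n ∈ Finset.range N, (-1 : ℤ) ^ n * (Module.finrank k (H10Coh.Hn S.X₁ n U) : ℤ) +
        ∑ n ∈ Finset.range N, (-1 : ℤ) ^ n * (Module.finrank k (H10Coh.Hn S.X₃ n U) : ℤ) := by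
  letI := fun n => σ.a₁.mod n U
  letI := fun n => σ.a₂.mod n U
  letI := fun n => σ.a₃.mod n U
  haveI : ∀ n, FiniteDimensional k (H10Coh.Hn S.X₁ n U) := h₁
  haveI : ∀ n, FiniteDimensional k (H10Coh.Hn S.X₂ n U) := h₂
  haveI : ∀ n, FiniteDimensional k (H10Coh.Hn S.X₃ n U) := h₃
  haveI := hS.mono_f
  refine alternating_sum_eq (fun n => H10Coh.ActSh.map σ.comm₁₂ n U)
    (fun n => H10Coh.ActSh.map σ.comm₂₃ n U) (fun n => σ.delta hS n U) ?_ (fun n => ?_) (fun n => ?_)
    (fun n => ?_) N (@Module.finrank_zero_of_subsingleton k _ _ _ _ _ hN)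
  · exact Ext.postcomp_mk₀_injective_of_mono _ S.f
  · refine le_antisymm (fun x hx => Ext.covariant_sequence_exact₂ _ hS x hx) ?_
    rintro _ ⟨x, rfl⟩
    show (x.comp (Ext.mk₀ S.f) (add_zero n)).comp (Ext.mk₀ S.g) (add_zero n) = 0
    rw [Ext.comp_assoc_of_second_deg_zero, Ext.mk₀_comp_mk₀, S.zero, Ext.mk₀_zero, Ext.comp_zero]
  · refine le_antisymm (fun x hx => Ext.covariant_sequence_exact₃ _ hS x rfl hx) ?_
    rintro _ ⟨x, rfl⟩
    show (x.comp (Ext.mk₀ S.g) (add_zero n)).comp hS.extClass rfl = 0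
    rw [Ext.comp_assoc_of_second_deg_zero, hS.comp_extClass, Ext.comp_zero]
  · refine le_antisymm (fun x hx => Ext.covariant_sequence_exact₁ _ hS x hx rfl) ?_
    rintro _ ⟨x, rfl⟩
    show (x.comp hS.extClass rfl).comp (Ext.mk₀ S.f) (add_zero (n + 1)) = 0
    rw [Ext.comp_assoc_of_third_deg_zero, hS.extClass_comp, Ext.comp_zero]

section scheme

variable {k : Type u} [Field k] {X : Scheme.{u}} [X.Over (Spec (CommRingCat.of k))]

theorem finrank_HH (M : X.Modules) (n : ℕ) :
    letI := (H10Coh.actM (H10Coh.globA (A := k) (X := X)) M).mod n ⊤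
    Module.finrank k (Coh.HH X M n) = Module.finrank k (H10Coh.HnM M n ⊤) := by
  letI := (H10Coh.actM (H10Coh.globA (A := k) (X := X)) M).mod n ⊤
  exact LinearEquiv.finrank_eq
    ({ H10Coh.HHEquiv M n with map_smul' := H10Coh.HHEquiv_smul' M n } : Coh.HH X M n ≃ₗ[k] H10Coh.HnM M n ⊤)

theorem euler_congr {M M' : X.Modules} (e : M ≅ M') : Curv2.euler k X M = Curv2.euler k X M' := by
  refine finsum_congr fun n => ?_
  rw [finrank_HH, finrank_HH]
  letI := (H10Coh.actM (H10Coh.globA (A := k) (X := X)) M).mod n ⊤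
  letI := (H10Coh.actM (H10Coh.globA (A := k) (X := X)) M').mod n ⊤
  congr 2
  refine congrArg Nat.cast (LinearEquiv.finrank_eq (LinearEquiv.ofBijective
    (H10Coh.ActSh.map (H10Coh.actM_comm (H10Coh.globA (A := k) (X := X)) e.hom) n ⊤) ?_))
  refine Function.bijective_iff_has_inverse.2 ⟨H10Coh.postH ((H10Coh.shF X).map e.inv) n ⊤, ?_, ?_⟩
  · intro x
    show H10Coh.postH _ n ⊤ (H10Coh.postH _ n ⊤ x) = x
    rw [← H10Coh.postH_comp, ← Functor.map_comp, e.hom_inv_id, CategoryTheory.Functor.map_id, H10Coh.postH_id]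
  · intro x
    show H10Coh.postH _ n ⊤ (H10Coh.postH _ n ⊤ x) = x
    rw [← H10Coh.postH_comp, ← Functor.map_comp, e.inv_hom_id, CategoryTheory.Functor.map_id, H10Coh.postH_id]

variable [IsProper (X ↘ Spec (CommRingCat.of k))]

theorem euler_eq_sum (M : X.Modules) (N : ℕ) (h : ∀ p, N ≤ p → Subsingleton (Coh.HH X M p)) :
    Curv2.euler k X M = ∑ n ∈ Finset.range N, (-1 : ℤ) ^ n * (Module.finrank k (Coh.HH X M n) : ℤ) := by
  refine finsum_eq_sum_of_support_subset _ fun n hn => ?_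
  simp only [Function.mem_support] at hn
  rw [Finset.coe_range, Set.mem_Iio]
  by_contra hle
  haveI := h n (not_lt.1 hle)
  exact hn (by rw [Module.finrank_zero_of_subsingleton]; simp)

/-- Additivity of the Euler characteristic. -/
theorem euler_add {S : ShortComplex X.Modules} (hS : S.ShortExact)
    (h₁ : Coh.IsCoh S.X₁) (h₂ : Coh.IsCoh S.X₂) (h₃ : Coh.IsCoh S.X₃) :
    Curv2.euler k X S.X₂ = Curv2.euler k X S.X₁ + Curv2.euler k X S.X₃ := by
  haveI : CompactSpace X := QuasiCompact.compactSpace_of_compactSpace (X ↘ Spec (CommRingCat.of k))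
  haveI : QuasiSeparatedSpace X :=
    quasiSeparatedSpace_of_quasiSeparated (X ↘ Spec (CommRingCat.of k))
  obtain ⟨N, hN⟩ : ∃ d : ℕ, ∀ (M : X.Modules), Coh.IsQCoh M → ∀ p : ℕ, d ≤ p → Subsingleton (Coh.HH X M p) :=
    H10Coh.exists_bound
  rw [euler_eq_sum S.X₁ N (hN _ h₁.1), euler_eq_sum S.X₂ N (hN _ h₂.1), euler_eq_sum S.X₃ N (hN _ h₃.1)]
  simp only [finrank_HH]
  have hf : ∀ (M : X.Modules), Coh.IsCoh M → ∀ n, H10Coh.FinH (H10Coh.globA (A := k) (X := X)) M n ⊤ :=
    fun M hM n => (H10Coh.finite_HH_iff_finH M n).1 (H10Coh.finite_HH_proper k X M hM n)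
  exact alternating_sum_space (H10Coh.actSeq (H10Coh.globA (A := k)) S) (H10Coh.shortExact_sh hS) ⊤
    (hf _ h₁) (hf _ h₂) (hf _ h₃) N ((H10Coh.HHEquiv S.X₁ N).symm.toEquiv.subsingleton_congr.2 (hN _ h₁.1 N le_rfl))

end scheme

end Groth.Agent.H25Euler
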