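import Groth.Agent.H25Euler.ParPoly
import Groth.Agent.H25Euler.Exists
import Groth.Agent.LeadDev.Filt

/-!
# Saturation of a coherent submodule
-/

set_option autoImplicit false
set_option linter.style.haveILetI false
universe u

open CategoryTheory CategoryTheory.Limits AlgebraicGeometry Opposite TopologicalSpace
open Groth.Agent

namespace Groth.Agent.H25Euler

theorem dim_union_lt {Y : Type*} [TopologicalSpace Y] [QuasiSober Y] [T0Space Y] {A B : Set Y}
    (hA : IsClosed A) (hB : IsClosed B) {d : ℕ} (hdA : topologicalKrullDim A < (d : WithBot ℕ∞))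
    (hdB : topologicalKrullDim B < (d : WithBot ℕ∞)) : topologicalKrullDim (A ∪ B : Set Y) < (d : WithBot ℕ∞) := by
  letI := specializationOrder (A ∪ B : Set Y)
  haveI : QuasiSober (A ∪ B : Set Y) := (hA.union hB).isClosedEmbedding_subtypeVal.quasiSober
  rw [H17.topologicalKrullDim_eq_krullDim_specialization]
  have key : ∀ p : @LTSeries (A ∪ B : Set Y) (specializationOrder (A ∪ B : Set Y)).toPreorder, p.length < d := by
    intro p
    suffices h : ∀ C : Set Y, IsClosed C → topologicalKrullDim C < (d : WithBot ℕ∞) → C ⊆ A ∪ B →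
        (p.last : Y) ∈ C → p.length < d by
      rcases p.last.2 with h' | h'
      · exact h A hA hdA Set.subset_union_left h'
      · exact h B hB hdB Set.subset_union_right h'
    intro C hC hdC _ hlast
    haveI : QuasiSober C := hC.isClosedEmbedding_subtypeVal.quasiSober
    letI := specializationOrder C
    rw [H17.topologicalKrullDim_eq_krullDim_specialization] at hdC
    have hmem : ∀ i, ((p i : (A ∪ B : Set Y)) : Y) ∈ C := fun i =>
      ((show p.last ⤳ p i from LTSeries.monotone p (Fin.le_last i)).map continuous_subtype_val).mem_closed hC hlast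
    let q : @LTSeries C (specializationOrder C).toPreorder :=
      { length := p.length
        toFun := fun i => ⟨_, hmem i⟩
        step := fun i => show (⟨_, hmem i.castSucc⟩ : C) < ⟨_, hmem i.succ⟩ from by
          refine lt_of_le_of_ne ?_ fun e => ?_
          · exact Topology.IsInducing.subtypeVal.specializes_iff.1
              ((show p i.succ ⤳ p i.castSucc from le_of_lt (p.step i)).map continuous_subtype_val)
          · exact ne_of_lt (show p i.castSucc < p i.succ from p.step i) (Subtype.ext (congrArg (fun z : C => z.1) e)) }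
    have h1 : ((q.length : ℕ∞) : WithBot ℕ∞) ≤ Order.krullDim C := Order.LTSeries.length_le_krullDim q
    exact_mod_cast h1.trans_lt hdC
  rcases d with _ | e
  · haveI : IsEmpty (A ∪ B : Set Y) := ⟨fun y => absurd (key (RelSeries.singleton _ y)) (by simp)⟩
    rw [Order.krullDim_eq_bot]
    exact WithBot.bot_lt_coe _
  · refine lt_of_le_of_lt (iSup_le fun p => ?_) (b := ((e : ℕ) : WithBot ℕ∞)) (by exact_mod_cast Nat.lt_succ_self e)
    exact_mod_cast Nat.le_of_lt_succ (key p)

theorem dim_lt_of_subset {Y : Type*} [TopologicalSpace Y] {A B : Set Y} (h : A ⊆ B) {d : ℕ}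
    (hB : topologicalKrullDim B < (d : WithBot ℕ∞)) : topologicalKrullDim A < (d : WithBot ℕ∞) :=
  lt_of_le_of_lt (Topology.IsInducing.topologicalKrullDim_le (f := Set.inclusion h)
    (Topology.IsEmbedding.inclusion _).isInducing) hB

variable {k : Type u} [Field k] {X : Scheme.{u}} [X.Over (Spec (CommRingCat.of k))]
  [IsProper (X ↘ Spec (CommRingCat.of k))]

omit [X.Over (Spec (CommRingCat.of k))] [IsProper (X ↘ Spec (CommRingCat.of k))] in
theorem dim_support_of_isZero {M : X.Modules} (hM : IsZero M) (d : ℕ) :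
    topologicalKrullDim (CohB1.support M) < (d : WithBot ℕ∞) := by
  haveI : IsEmpty (CohB1.support M) :=
    ⟨fun x => (notMem_support_iff M x.1).2 ((DerSch.stalkFunctor X x.1).map_isZero hM) x.2⟩
  haveI : IsEmpty (IrreducibleCloseds (CohB1.support M)) :=
    ⟨fun Z => let ⟨x, _⟩ := Z.isIrreducible.nonempty; isEmptyElim x⟩
  rw [topologicalKrullDim, Order.krullDim_eq_bot]
  exact WithBot.bot_lt_coe _

/-- The saturation of a coherent submodule of a pure module. -/
theorem exists_saturation_of_dim (k : Type u) [Field k] [X.Over (Spec (CommRingCat.of k))]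
    [IsProper (X ↘ Spec (CommRingCat.of k))] {L : X.Modules} (hL : CohB1.IsAmple L) {E W : X.Modules}
    (hE : Coh.IsCoh E) (hW : Coh.IsCoh W) (ι : W ⟶ E) [Mono ι] {d : ℕ}
    (hEdim : topologicalKrullDim (CohB1.support E) = (d : WithBot ℕ∞)) :
    ∃ (W' : X.Modules) (ι' : W' ⟶ E) (φ : W ⟶ W'), Mono ι' ∧ φ ≫ ι' = ι ∧ Coh.IsCoh W' ∧
      topologicalKrullDim (CohB1.support (cokernel φ)) < (d : WithBot ℕ∞) ∧ ShStab.IsPure X (cokernel ι') d := by
  haveI : CompactSpace X := hL.2.1
  haveI : IsLocallyNoetherian X := LocallyOfFiniteType.isLocallyNoetherian (X ↘ Spec (CommRingCat.of k))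
  haveI : IsNoetherian X := {}
  let P : ∀ N : X.Modules, (N ⟶ E) → Prop := fun N f => Mono f ∧ Coh.IsCoh N ∧
    ∃ φ : W ⟶ N, φ ≫ f = ι ∧ topologicalKrullDim (CohB1.support (cokernel φ)) < (d : WithBot ℕ∞)
  obtain ⟨N, f, ⟨hfm, hN, φ, hφ, hdim⟩, hmax⟩ := LeadDev.exists_maximal_sub E hE P (fun N f h => ⟨h.1, h.2.1⟩)
    ⟨W, ι, inferInstance, hW, 𝟙 W, Category.id_comp ι, dim_support_of_isZero
      (isZero_cokernel_of_epi (𝟙 W)) d⟩
  haveI := hfm
  refine ⟨N, f, φ, hfm, hφ, hN, hdim, fun G g hg hG hG0 => ?_⟩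
  haveI := hg
  have hC := H10Coh.isCoh_cokernel f hN.1 hE
  have hsub : CohB1.support G ⊆ CohB1.support E :=
    (support_subset_of_mono g).trans (support_cokernel_subset f)
  refine le_antisymm (hEdim ▸ Topology.IsInducing.topologicalKrullDim_le (f := Set.inclusion hsub)
    (Topology.IsEmbedding.inclusion _).isInducing) (not_lt.1 fun hGd => hG0 ?_)
  -- the preimage of `G`
  let Q := pullback (cokernel.π f) g
  let q : Q ⟶ E := pullback.fst _ _
  let l : Q ⟶ G := pullback.snd _ _
  have hQ : Coh.IsCoh Q := by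
    let ψ := cokernel.π f ≫ cokernel.π g
    have hlim : IsLimit (KernelFork.ofι (f := ψ) q (by
        show q ≫ cokernel.π f ≫ cokernel.π g = 0
        rw [← Category.assoc, pullback.condition, Category.assoc, cokernel.condition, comp_zero])) := by
      refine KernelFork.IsLimit.ofι' _ _ fun {A} t ht => ?_
      have ht' : (t ≫ cokernel.π f) ≫ cokernel.π g = 0 := (Category.assoc _ _ _).trans ht
      obtain ⟨r, hr⟩ := KernelFork.IsLimit.lift' (Abelian.monoIsKernelOfCokernel _ (cokernelIsCokernel g))
        (t ≫ cokernel.π f) ht'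
      exact ⟨pullback.lift t r hr.symm, pullback.lift_fst _ _ _⟩
    exact H10Coh.isCoh_of_mono q (@H10Coh.isQuasicoherent_of_iso _ _ _
      ((kernelIsKernel ψ).conePointUniqueUpToIso hlim)
      (H10Coh.isCoh_kernel ψ hE (H10Coh.isCoh_cokernel g hG.1 hC).1).1) hE
  let θ : N ⟶ Q := pullback.lift f 0 (by rw [cokernel.condition, zero_comp])
  have hθ : θ ≫ q = f := pullback.lift_fst _ _ _
  -- the new quotient lives on the two small supports
  have hle : CohB1.support (cokernel (φ ≫ θ)) ⊆ CohB1.support (cokernel φ) ∪ CohB1.support G := by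
    intro x hx
    by_contra hnot
    rw [Set.mem_union, not_or] at hnot
    let F := DerSch.stalkFunctor X x
    have hzφ := (notMem_support_iff _ x).1 hnot.1
    have hzG := (notMem_support_iff _ x).1 hnot.2
    haveI : Mono φ := haveI : Mono (φ ≫ f) := by rw [hφ]; infer_instance
      mono_of_mono φ f
    have hS : (ShortComplex.mk φ (cokernel.π φ) (cokernel.condition _)).ShortExact :=
      { exact := ShortComplex.exact_cokernel _ }
    haveI : Mono (F.map φ) := (hS.map_of_exact F).mono_f
    haveI : Epi (F.map φ) := (hS.map_of_exact F).exact.epi_f (hzφ.eq_of_tgt _ _)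
    haveI : IsIso (F.map φ) := isIso_of_mono_of_epi _
    have hS' : (ShortComplex.mk f (cokernel.π f) (cokernel.condition _)).ShortExact :=
      { exact := ShortComplex.exact_cokernel _ }
    have hex := hS'.map_of_exact F
    haveI : Mono (F.map f) := hex.mono_f
    have hq0 : F.map q ≫ F.map (cokernel.π f) = 0 := by
      rw [← F.map_comp, pullback.condition, F.map_comp, hzG.eq_of_tgt (F.map _) 0, zero_comp]
    obtain ⟨h, hh⟩ : { r : F.obj Q ⟶ F.obj N // r ≫ F.map f = F.map q } :=
      KernelFork.IsLimit.lift' hex.fIsKernel (F.map q) hq0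
    haveI : Mono (F.map q) := F.map_mono q
    haveI : IsIso (F.map θ) := by
      refine ⟨⟨h, ?_, ?_⟩⟩
      · rw [← cancel_mono (F.map f), Category.id_comp, Category.assoc]
        refine Eq.trans (congrArg (F.map θ ≫ ·) hh) ?_
        rw [← F.map_comp, hθ]
      · rw [← cancel_mono (F.map q), Category.id_comp, Category.assoc, ← F.map_comp, hθ]
        exact hh
    haveI : IsIso (F.map (φ ≫ θ)) := by rw [F.map_comp]; infer_instance
    exact (notMem_support_kernel_cokernel _ (show IsIso (F.map (φ ≫ θ)) from inferInstance)).2 hx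
  have hQc : Coh.IsCoh (cokernel (φ ≫ θ)) := H10Coh.isCoh_cokernel _ hW.1 hQ
  have hepi : Epi θ := hmax Q q θ ⟨inferInstance, hQ, φ ≫ θ, by rw [Category.assoc, hθ, hφ],
    dim_lt_of_subset hle (dim_union_lt (H10Coh.isClosed_support _ (H10Coh.isCoh_cokernel φ hW.1 hN).2)
      (H10Coh.isClosed_support G hG.2) hdim hGd)⟩ hθ
  have hq' : q ≫ cokernel.π f = 0 := by
    rw [← cancel_epi θ, ← Category.assoc, hθ, cokernel.condition, comp_zero]
  have hl : l = 0 := by
    rw [← cancel_mono g, zero_comp, ← pullback.condition]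
    exact hq'
  rw [IsZero.iff_id_eq_zero, ← cancel_epi l, hl, zero_comp, zero_comp]

/-- The saturation of a coherent submodule of a pure module. -/
theorem exists_saturation (k : Type u) [Field k] [X.Over (Spec (CommRingCat.of k))]
    [IsProper (X ↘ Spec (CommRingCat.of k))] {L : X.Modules} (hL : CohB1.IsAmple L) {E W : X.Modules}
    (hE : Coh.IsCoh E) (hW : Coh.IsCoh W) (ι : W ⟶ E) [Mono ι] {d : ℕ} (hpure : ShStab.IsPure X E d)
    (h0 : ¬ IsZero E) :
    ∃ (W' : X.Modules) (ι' : W' ⟶ E) (φ : W ⟶ W'), Mono ι' ∧ φ ≫ ι' = ι ∧ Coh.IsCoh W' ∧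
      topologicalKrullDim (CohB1.support (cokernel φ)) < (d : WithBot ℕ∞) ∧ ShStab.IsPure X (cokernel ι') d :=
  exists_saturation_of_dim k hL hE hW ι (hpure E (𝟙 E) inferInstance hE h0)

end Groth.Agent.H25Euler
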