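import Groth.Agent.H25Euler.RankCoeff
import Groth.Agent.H22Alg.FiniteDegree
import Groth.Agent.H29Fitt.Sheaf
import Groth.Agent.H10Coh.AffinePush

/-!
# The generic rank of the direct image of the structure sheaf under a finite flat morphism
-/

set_option autoImplicit false
set_option linter.style.haveILetI false
universe u

open CategoryTheory CategoryTheory.Limits AlgebraicGeometry Opposite TopologicalSpace TensorProduct
open Groth.Agent

noncomputable section

namespace Groth.Agent.H25Euler

theorem finrank_eq_rankAtStalk_of_isLocalizedModule {R : Type u} [CommRing R] (p : PrimeSpectrum R) (L : Type u)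
    [CommRing L] [Algebra R L] [IsLocalization.AtPrime L p.asIdeal] {M N : Type u} [AddCommGroup M] [Module R M]
    [AddCommGroup N] [Module R N] [Module L N] [IsScalarTower R L N] (f : M →ₗ[R] N)
    [IsLocalizedModule p.asIdeal.primeCompl f] :
    Module.finrank L N = Module.rankAtStalk M p := by
  rw [Module.rankAtStalk_eq_finrank_tensorProduct,
    ← ((isLocalizedModule_iff_isBaseChange p.asIdeal.primeCompl L f).1 inferInstance).equiv.finrank_eq]
  let e : Localization.AtPrime p.asIdeal ≃ₐ[R] L :=
    IsLocalization.algEquiv p.asIdeal.primeCompl _ _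
  let j : Localization.AtPrime p.asIdeal ⊗[R] M ≃ₗ[R] L ⊗[R] M :=
    TensorProduct.congr e.toLinearEquiv (LinearEquiv.refl R M)
  refine congrArg Cardinal.toNat (rank_eq_of_equiv_equiv e j.toAddEquiv e.bijective fun r x => ?_).symm
  induction x using TensorProduct.induction_on with
  | zero => simp
  | tmul a m =>
    show j (r • (a ⊗ₜ[R] m)) = e r • j (a ⊗ₜ[R] m)
    simp only [j, TensorProduct.congr_tmul, TensorProduct.smul_tmul', smul_eq_mul, LinearEquiv.refl_apply]
    exact congrArg (· ⊗ₜ[R] m) (map_mul e r a)
  | add x y hx hy => simp only [smul_add, map_add, hx, hy]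

variable {X Y : Scheme.{u}}

/-- The generic rank of the direct image of the structure sheaf is the degree. -/
theorem genRank_push [IsIntegral X] (f : Y ⟶ X) [IsFinite f] [Flat f] :
    genRank ((Coh.push f).obj (Coh.structureModule Y)) = f.finrank (genericPoint X) := by
  obtain ⟨V, hV, hyV, -⟩ := exists_isAffineOpen_mem_and_subset (X := X) (x := genericPoint X) (U := ⊤) trivial
  rw [H22Alg.FiniteDegree.finrank_eq_rankAtStalk f hV ⟨_, hyV⟩]
  let x : V := ⟨genericPoint X, hyV⟩
  let E := (Coh.push f).obj (Coh.structureModule Y)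
  haveI : (Coh.structureModule Y).IsQuasicoherent :=
    (H11Ample.isCoh_of_isInvertible H11Ample.isInvertible_structureModule).1
  haveI hE : E.IsQuasicoherent := H10Coh.isQuasicoherent_pushforward_of_isAffineHom f _
  letI := TopCat.Presheaf.algebra_section_stalk X.presheaf x
  letI mst := Module.compHom (E.presheaf.stalk x.1) (algebraMap Γ(X, V) (X.presheaf.stalk x.1))
  haveI := hV.isLocalization_stalk x
  haveI : IsScalarTower Γ(X, V) (X.presheaf.stalk x.1) (E.presheaf.stalk x.1) :=
    IsScalarTower.of_algebraMap_smul fun r z => rfl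
  haveI := H29Fitt.isLocalizedModule_germLin E hE hV x
  show Module.finrank (X.presheaf.stalk x.1) (E.presheaf.stalk x.1) = _
  rw [finrank_eq_rankAtStalk_of_isLocalizedModule (hV.primeIdealOf x) (X.presheaf.stalk x.1)
    (H29Fitt.germLin E x)]
  letI := (f.app V).hom.toAlgebra
  exact congrFun (Module.rankAtStalk_eq_of_equiv ({ AddEquiv.refl Γ(E, V) with map_smul' := fun r z => rfl } :
    Γ(E, V) ≃ₗ[Γ(X, V)] Γ(Y, f ⁻¹ᵁ V))) _

end Groth.Agent.H25Euler
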