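import Groth.Agent.H25Euler.ParPoly
import Mathlib.CategoryTheory.Abelian.CommSq

/-!
# The first modified parabolic polynomial against the parabolic polynomial
-/

set_option autoImplicit false
set_option linter.style.haveILetI false
universe u

open CategoryTheory CategoryTheory.Limits AlgebraicGeometry Opposite TopologicalSpace Filter Topology
open Groth.Agent

namespace Groth.Agent.H25Euler

variable {k : Type u} [Field k] {X : Scheme.{u}} [X.Over (Spec (CommRingCat.of k))]
  [IsProper (X ↘ Spec (CommRingCat.of k))] {L : X.Modules}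

omit [IsProper (X ↘ Spec (CommRingCat.of k))] in
theorem hilbPoly_zero {F : X.Modules} (hF : IsZero F) : ShStab.IsHilbPoly k X L F 0 := fun m => by
  have h : Curv2.euler k X (ShStab.twist X L F m) = 0 :=
    euler_eq_zero_of_isZero ((((DCoh.tensorBi (X := X)).flip.obj (CohB1.tensorPow L m)).map_isZero hF).of_iso
      (eqToIso (tensorBi_flip_obj F (CohB1.tensorPow L m)).symm))
  simp [h]

omit [IsProper (X ↘ Spec (CommRingCat.of k))] in
theorem hilbPoly_congr {F G : X.Modules} (e : F ≅ G) {P : Polynomial ℚ} (hP : ShStab.IsHilbPoly k X L F P) :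
    ShStab.IsHilbPoly k X L G P := fun m =>
  (congrArg (fun z : ℤ => (z : ℚ)) (chi_congr (k := k) (L := L) e m).symm).trans (hP m)

/-- The Hilbert polynomials of the induced pieces from those of the quotients. -/
theorem hilb_induced_of_quot (hL : CohB1.IsAmple L) {E W : X.Modules} (hE : Coh.IsCoh E) (hW : Coh.IsCoh W)
    {𝓔 : ParSh.Str E} (hcoh : ∀ j, Coh.IsCoh ((𝓔.pieceX j : Subobject E) : X.Modules)) (ι : W ⟶ E)
    {Q : Polynomial ℚ} (hQ : ShStab.IsHilbPoly k X L W Q) {QH : Fin (𝓔.l + 2) → Polynomial ℚ}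
    (hQH : ∀ j, ShStab.IsHilbPoly k X L (cokernel ((𝓔.induced ι).pieceX j).arrow) (QH j)) (j : Fin (𝓔.l + 2)) :
    ShStab.IsHilbPoly k X L (((𝓔.induced ι).pieceX j : Subobject W) : X.Modules) (Q - QH j) := fun m => by
  have hc : Coh.IsCoh (((𝓔.induced ι).pieceX j : Subobject W) : X.Modules) := by
    erw [induced_pieceX]
    exact isCoh_pullback_sub k hL hE hW _ (hcoh j) ι
  have hS : (ShortComplex.mk ((𝓔.induced ι).pieceX j).arrow (cokernel.π _) (cokernel.condition _)).ShortExact :=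
    { exact := ShortComplex.exact_cokernel _ }
  have h : chi k L W m = chi k L (((𝓔.induced ι).pieceX j : Subobject W) : X.Modules) m +
      chi k L (cokernel ((𝓔.induced ι).pieceX j).arrow) m :=
    chi_add hL.1 hS hc hW (H10Coh.isCoh_cokernel _ hc.1 hW) m
  simp only [chi] at h
  rw [Polynomial.eval_sub, ← hQ m, ← hQH j m, h]; push_cast; ring

omit [IsProper (X ↘ Spec (CommRingCat.of k))] in
theorem weights_nonneg {C : Type*} [Category C] {E : C} (𝓔 : ParSh.Str E) (j : Fin (𝓔.l + 1)) :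
    0 ≤ 𝓔.wtX j.succ - 𝓔.wtX j.castSucc := by
  rcases Fin.eq_castSucc_or_eq_last j.succ with ⟨i, hi⟩ | hi
  · rw [hi, ParSh.Str.wtX_castSucc, ParSh.Str.wtX_castSucc, sub_nonneg]
    exact 𝓔.wt_strictMono.monotone (Fin.castSucc_le_castSucc_iff.1 (hi ▸ (Fin.castSucc_lt_succ (i := j)).le))
  · rw [hi, ParSh.Str.wtX_last, ParSh.Str.wtX_castSucc, sub_nonneg]
    exact (𝓔.wt_strictMono.monotone (Fin.le_last j)).trans 𝓔.wt_lt_one.le

/-- With semistable quotients, the first modified polynomial is at most the parabolic polynomial. -/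
theorem parPolyOne_le (hL : CohB1.IsAmple L) {I : X.IdealSheafData} {E : X.Modules} (hE : Coh.IsCoh E)
    {𝓔 : ParSh.Str E} (h𝓔 : 𝓔.Along I)
    (hcoh : ∀ j, Coh.IsCoh ((𝓔.pieceX j : Subobject E) : X.Modules)) {d : ℕ} (hd : 1 ≤ d)
    (hsupp : topologicalKrullDim ↥(CohB1.support E ∩ (I.support : Set X)) < (d : WithBot ℕ∞))
    {H : Fin (𝓔.l + 2) → Polynomial ℚ}
    (hH : ∀ j, ShStab.IsHilbPoly k X L (cokernel (𝓔.pieceX j).arrow) (H j))
    (hHa : ∀ j : Fin (𝓔.l + 1), StabCat.alpha (d - 1) (H j.succ) ≠ 0)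
    (hq : ∀ j : Fin (𝓔.l + 1),
      StabCat.IsSS Coh.IsCoh (ShStab.IsHilbPoly k X L) (d - 1) (cokernel (𝓔.pieceX j.succ).arrow))
    {W : X.Modules} (ι : W ⟶ E) [Mono ι] (hW : Coh.IsCoh W)
    {Q : Polynomial ℚ} (hQ : ShStab.IsHilbPoly k X L W Q) {QH : Fin (𝓔.l + 2) → Polynomial ℚ}
    (hQH : ∀ j, ShStab.IsHilbPoly k X L (cokernel ((𝓔.induced ι).pieceX j).arrow) (QH j))
    {QX : Fin (𝓔.l + 2) → Polynomial ℚ}
    (hQX : ∀ j, ShStab.IsHilbPoly k X L (((𝓔.induced ι).pieceX j : Subobject W) : X.Modules) (QX j)) :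
    ∃ M : ℕ, ∀ m : ℕ, M ≤ m → (W4swparbununimod.parPolyOne 𝓔 d Q QH H).eval (m : ℝ) ≤
      (W4swparbununimod.parPoly (𝓔.induced ι) QX).eval (m : ℝ) := by
  obtain ⟨h0, -, hq'⟩ := hilb_induced (k := k) hL hE h𝓔 hcoh hsupp ι hW hQ hQX
  have hQHe : ∀ j, QH j = Q - QX j := fun j => hilbPoly_unique (k := k) (hQH j) (hq' j)
  have hpar : W4swparbununimod.parPoly (𝓔.induced ι) QX = W4swparbununimod.rpoly Q -
      ∑ j : Fin (𝓔.l + 1), Polynomial.C (𝓔.wtX j.succ - 𝓔.wtX j.castSucc) *
        W4swparbununimod.rpoly (QH j.succ) := by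
    ext n
    refine (parPoly_coeff (𝓔.induced ι) QX Q h0 n).trans ?_
    simp only [Polynomial.coeff_sub, Polynomial.finsetSum_coeff, Polynomial.coeff_C_mul, Polynomial.coeff_map,
      eq_ratCast, hQHe]
    rfl
  -- one comparison for each piece
  have key : ∀ j : Fin (𝓔.l + 1), ∀ᶠ m : ℕ in atTop, (QH j.succ).eval (m : ℚ) ≤
      (StabCat.alpha (d - 1) (QH j.succ) / StabCat.alpha (d - 1) (H j.succ)) * (H j.succ).eval (m : ℚ) := by
    intro j
    have hC := H10Coh.isCoh_cokernel (𝓔.pieceX j.succ).arrow (hcoh j.succ).1 hE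
    have hc : Coh.IsCoh (((𝓔.induced ι).pieceX j.succ : Subobject W) : X.Modules) := by
      erw [induced_pieceX]
      exact isCoh_pullback_sub k hL hE hW _ (hcoh j.succ) ι
    have hG := H10Coh.isCoh_cokernel ((𝓔.induced ι).pieceX j.succ).arrow hc.1 hW
    have hu : ∃ u : cokernel ((Subobject.pullback ι).obj (𝓔.pieceX j.succ)).arrow ⟶
        cokernel (𝓔.pieceX j.succ).arrow, Mono u :=
      ⟨cokernel.map _ _ _ _ (Subobject.isPullback ι (𝓔.pieceX j.succ)).flip.w,
        Abelian.mono_cokernel_map_of_isPullback (Subobject.isPullback ι (𝓔.pieceX j.succ)).flip⟩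
    erw [← induced_pieceX] at hu
    obtain ⟨u, hu⟩ := hu
    haveI := hu
    have hHnn : 0 < StabCat.alpha (d - 1) (H j.succ) := by
      refine lt_of_le_of_ne (mul_nonneg (Nat.cast_nonneg _) (coeff_nonneg_of_eventually (fun n hn => ?_)
        (eval_nonneg (k := k) hL hC (hH _)))) (hHa j).symm
      exact coeff_hilbPoly_eq_zero (k := k) hL hC (hH _)
        (lt_of_le_of_lt (Topology.IsInducing.topologicalKrullDim_le
          (f := Set.inclusion (support_cokernel_piece h𝓔 j.succ)) (Topology.IsEmbedding.inclusion _).isInducing)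
          hsupp) (by omega)
    by_cases hz : IsZero (cokernel ((𝓔.induced ι).pieceX j.succ).arrow)
    · rw [hilbPoly_unique (k := k) (hQH j.succ) (hilbPoly_zero hz)]
      exact Eventually.of_forall fun m => by simp [StabCat.alpha]
    by_cases hi : IsIso u
    · rw [hilbPoly_unique (k := k) (hilbPoly_congr (asIso u) (hQH j.succ)) (hH j.succ), div_self hHnn.ne']
      exact Eventually.of_forall fun m => by simp
    · obtain ⟨N, hN⟩ := hq j _ u hu hG hz hi _ _ (hQH j.succ) (hH j.succ)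
      filter_upwards [eventually_ge_atTop N] with m hm
      have := hN m hm
      simp only [Polynomial.eval_smul, smul_eq_mul] at this
      rw [div_mul_eq_mul_div, le_div_iff₀ hHnn]
      linarith
  obtain ⟨M, hM⟩ := eventually_atTop.1 (eventually_all.2 key)
  refine ⟨M, fun m hm => ?_⟩
  have hcast : ∀ G : Polynomial ℚ, (W4swparbununimod.rpoly G).eval (m : ℝ) = ((G.eval (m : ℚ) : ℚ) : ℝ) :=
    fun G => by
      rw [show ((m : ℝ)) = (Rat.castHom ℝ) (m : ℚ) by simp, Polynomial.eval_map_apply]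
      rfl
  rw [hpar]
  simp only [W4swparbununimod.parPolyOne, Polynomial.eval_sub, Polynomial.eval_finsetSum, Polynomial.eval_mul,
    Polynomial.eval_C, hcast, mul_assoc]
  refine sub_le_sub_left (Finset.sum_le_sum fun j _ => mul_le_mul_of_nonneg_left ?_ (weights_nonneg 𝓔 j)) _
  exact_mod_cast hM m hm j

end Groth.Agent.H25Euler
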