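import Groth.Agent.H25Euler.ParSh
import Mathlib.Analysis.Normed.Field.Basic
import Mathlib.Analysis.SpecificLimits.Basic

/-!
# Parabolic Hilbert polynomials: coefficients and asymptotics
-/

set_option autoImplicit false
set_option linter.style.haveILetI false
universe u v w

open CategoryTheory CategoryTheory.Limits AlgebraicGeometry Opposite TopologicalSpace
open Groth.Agent

namespace Groth.Agent.H25Euler

/-- Summation by parts in the parabolic polynomial. -/
theorem parPoly_coeff {C : Type u} [Category.{v} C] {E : C} (𝓔 : ParSh.Str E)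
    (PX : Fin (𝓔.l + 2) → Polynomial ℚ) (P : Polynomial ℚ) (h0 : PX 0 = P) (n : ℕ) :
    (W4swparbununimod.parPoly 𝓔 PX).coeff n = (P.coeff n : ℝ) -
      ∑ j : Fin (𝓔.l + 1), (𝓔.wtX j.succ - 𝓔.wtX j.castSucc) * ((P - PX j.succ).coeff n : ℝ) := by
  let h : Fin (𝓔.l + 2) → ℝ := fun i => ((P - PX i).coeff n : ℝ)
  have hzero : h 0 = 0 := by simp [h, h0]
  have e1 := Fin.sum_univ_succ (fun i => 𝓔.wtX i * h i)
  have e2 := Fin.sum_univ_castSucc (fun i => 𝓔.wtX i * h i)
  simp only [hzero, mul_zero, zero_add] at e1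
  simp only [ParSh.Str.wtX_castSucc, ParSh.Str.wtX_last, one_mul] at e2
  have hc : ∀ i, ((PX i).coeff n : ℝ) = (P.coeff n : ℝ) - h i := fun i => by
    simp only [h, Polynomial.coeff_sub]; push_cast; ring
  simp only [W4swparbununimod.parPoly, Polynomial.coeff_add, Polynomial.finsetSum_coeff,
    Polynomial.coeff_C_mul, Polynomial.coeff_sub, Polynomial.coeff_map, eq_ratCast, hc,
    ParSh.Str.wtX_castSucc]
  have e3 : ∀ j : Fin (𝓔.l + 1), 𝓔.wt j * ((P.coeff n : ℝ) - h j.castSucc - ((P.coeff n : ℝ) - h j.succ)) =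
      𝓔.wt j * h j.succ - 𝓔.wt j * h j.castSucc := fun j => by ring
  have e4 : ∀ j : Fin (𝓔.l + 1), ((P.coeff n : ℝ) - ((P.coeff n : ℝ) - h j.succ)) = h j.succ := fun j => by ring
  simp only [e3, sub_mul, Finset.sum_sub_distrib, Rat.cast_sub, hc, e4]
  linarith

section asymp

open Filter Topology

/-- `P(m)/m^e → coeff e` for a polynomial of degree at most `e`. -/
theorem tendsto_eval_div (P : Polynomial ℝ) (e : ℕ) (hP : ∀ n, e < n → P.coeff n = 0) :
    Tendsto (fun m : ℕ => P.eval (m : ℝ) / (m : ℝ) ^ e) atTop (𝓝 (P.coeff e)) := by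
  have hdeg : P.natDegree < e + 1 := Nat.lt_succ_of_le (Polynomial.natDegree_le_iff_coeff_eq_zero.2 hP)
  have hterm : ∀ i ∈ Finset.range (e + 1),
      Tendsto (fun m : ℕ => P.coeff i * ((m : ℝ) ^ i / (m : ℝ) ^ e)) atTop
        (𝓝 (if i = e then P.coeff e else 0)) := by
    intro i hi
    split_ifs with h
    · subst h
      refine tendsto_const_nhds.congr' ?_
      filter_upwards [eventually_gt_atTop 0] with m hm
      rw [div_self (pow_ne_zero _ (Nat.cast_ne_zero.2 hm.ne')), mul_one]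
    · have hlt : i < e := lt_of_le_of_ne (Nat.lt_succ_iff.1 (Finset.mem_range.1 hi)) h
      have ht : Tendsto (fun m : ℕ => ((m : ℝ) ^ i / (m : ℝ) ^ e)) atTop (𝓝 0) :=
        (tendsto_pow_div_pow_atTop_zero hlt).comp tendsto_natCast_atTop_atTop
      simpa using ht.const_mul (P.coeff i)
  have hsum := tendsto_finsetSum _ hterm
  rw [Finset.sum_ite_eq' (Finset.range (e + 1)) e, if_pos (by simp)] at hsum
  refine hsum.congr' (Eventually.of_forall fun m => ?_)
  beta_reduce
  rw [Polynomial.eval_eq_sum_range' hdeg, Finset.sum_div]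
  exact Finset.sum_congr rfl fun i _ => (mul_div_assoc _ _ _).symm

theorem coeff_nonpos_of_eventually (P : Polynomial ℝ) (e : ℕ) (hP : ∀ n, e < n → P.coeff n = 0)
    (h : ∃ M : ℕ, ∀ m, M ≤ m → P.eval (m : ℝ) ≤ 0) : P.coeff e ≤ 0 := by
  obtain ⟨M, hM⟩ := h
  refine le_of_tendsto (tendsto_eval_div P e hP) ?_
  filter_upwards [eventually_ge_atTop M] with m hm
  exact div_nonpos_of_nonpos_of_nonneg (hM m hm) (by positivity)

theorem eventually_neg (P : Polynomial ℝ) (e : ℕ) (hP : ∀ n, e < n → P.coeff n = 0)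
    (h : P.coeff e < 0) : ∃ M : ℕ, ∀ m, M ≤ m → P.eval (m : ℝ) < 0 := by
  have h1 := (tendsto_eval_div P e hP).eventually (Iio_mem_nhds h)
  obtain ⟨M, hM⟩ := eventually_atTop.1 (h1.and (eventually_gt_atTop 0))
  refine ⟨M, fun m hm => ?_⟩
  obtain ⟨h2, h3⟩ := hM m hm
  have h4 := (div_lt_iff₀ (pow_pos (Nat.cast_pos.2 h3) e)).1 h2
  rwa [zero_mul] at h4

end asymp

section induced

variable {k : Type u} [Field k] {X : Scheme.{u}} [X.Over (Spec (CommRingCat.of k))]
  [IsProper (X ↘ Spec (CommRingCat.of k))] {L : X.Modules}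

theorem hilbPoly_unique {F : X.Modules} {P Q : Polynomial ℚ} (hP : ShStab.IsHilbPoly k X L F P)
    (hQ : ShStab.IsHilbPoly k X L F Q) : P = Q := by
  refine Polynomial.eq_of_infinite_eval_eq _ _ (Set.Infinite.mono ?_
    (Set.infinite_range_of_injective (f := fun m : ℕ => (m : ℚ)) Nat.cast_injective))
  rintro _ ⟨m, rfl⟩
  show P.eval (m : ℚ) = Q.eval (m : ℚ)
  rw [← hP m, ← hQ m]

theorem induced_pieceX {E W : X.Modules} (𝓔 : ParSh.Str E) (ι : W ⟶ E) (j : Fin (𝓔.l + 2)) :
    (𝓔.induced ι).pieceX j = (Subobject.pullback ι).obj (𝓔.pieceX j) := by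
  refine Fin.lastCases ?_ (fun i => ?_) j
  · exact ((𝓔.induced ι).pieceX_last).trans (congrArg _ 𝓔.pieceX_last.symm)
  · exact ((𝓔.induced ι).pieceX_castSucc i).trans (congrArg _ (𝓔.pieceX_castSucc i).symm)

theorem isCoh_pullback_sub (k : Type u) [Field k] [X.Over (Spec (CommRingCat.of k))]
    [IsProper (X ↘ Spec (CommRingCat.of k))] (hL : CohB1.IsAmple L) {E W : X.Modules} (hE : Coh.IsCoh E) (hW : Coh.IsCoh W)
    (S : Subobject E) (hS : Coh.IsCoh ((S : Subobject E) : X.Modules)) (ι : W ⟶ E) :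
    Coh.IsCoh (((Subobject.pullback ι).obj S : Subobject W) : X.Modules) := by
  haveI : IsLocallyNoetherian X := LocallyOfFiniteType.isLocallyNoetherian (X ↘ Spec (CommRingCat.of k))
  have hC := H10Coh.isCoh_cokernel S.arrow hS.1 hE
  let φ := ι ≫ cokernel.π S.arrow
  let Pb := (Subobject.pullback ι).obj S
  have sq := Subobject.isPullback ι S
  have hlim : IsLimit (KernelFork.ofι (f := φ) Pb.arrow (by
      simp only [φ, Pb, ← Category.assoc, ← sq.w]
      rw [Category.assoc, cokernel.condition, comp_zero])) := by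
    refine KernelFork.IsLimit.ofι' _ _ fun {A} g hg => ?_
    have hg' : (g ≫ ι) ≫ cokernel.π S.arrow = 0 := (Category.assoc _ _ _).trans hg
    obtain ⟨l, hl⟩ := KernelFork.IsLimit.lift' (Abelian.monoIsKernelOfCokernel _ (cokernelIsCokernel S.arrow))
      (g ≫ ι) hg'
    exact ⟨sq.lift l g hl, sq.lift_snd _ _ _⟩
  exact H10Coh.isCoh_of_mono Pb.arrow
    (@H10Coh.isQuasicoherent_of_iso _ _ _ ((kernelIsKernel φ).conePointUniqueUpToIso hlim)
      (H10Coh.isCoh_kernel φ hW hC.1).1) hW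

omit [X.Over (Spec (CommRingCat.of k))] [IsProper (X ↘ Spec (CommRingCat.of k))] in
theorem support_subset_of_mono {E W : X.Modules} (ι : W ⟶ E) [Mono ι] :
    CohB1.support W ⊆ CohB1.support E :=
  (support_X₁_X₃ (S := ShortComplex.mk ι (cokernel.π ι) (cokernel.condition _))
    { exact := ShortComplex.exact_cokernel _ }).1

omit [X.Over (Spec (CommRingCat.of k))] [IsProper (X ↘ Spec (CommRingCat.of k))] in
theorem support_cokernel_induced {E W : X.Modules} {I : X.IdealSheafData} {𝓔 : ParSh.Str E} (h : 𝓔.Along I)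
    (ι : W ⟶ E) [Mono ι] (j : Fin (𝓔.l + 2)) :
    CohB1.support (cokernel ((𝓔.induced ι).pieceX j).arrow) ⊆ CohB1.support E ∩ (I.support : Set X) := by
  rw [induced_pieceX]
  intro x hx
  by_contra hnot
  have hEj : IsIso ((DerSch.stalkFunctor X x).map (𝓔.pieceX j).arrow) := by
    have hS : (ShortComplex.mk (𝓔.pieceX j).arrow (cokernel.π _) (cokernel.condition _)).ShortExact :=
      { exact := ShortComplex.exact_cokernel _ }
    have hz := (notMem_support_iff (cokernel (𝓔.pieceX j).arrow) x).1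
      fun hx' => hnot (support_cokernel_piece h j hx')
    have hS' := hS.map_of_exact (DerSch.stalkFunctor X x)
    haveI hm : Mono ((DerSch.stalkFunctor X x).map (𝓔.pieceX j).arrow) := hS'.mono_f
    haveI : Epi ((DerSch.stalkFunctor X x).map (𝓔.pieceX j).arrow) := hS'.exact.epi_f (hz.eq_of_tgt _ _)
    exact isIso_of_mono_of_epi _
  haveI := hEj
  have sq := (Subobject.isPullback ι (𝓔.pieceX j)).map (DerSch.stalkFunctor X x)
  exact (notMem_support_kernel_cokernel _ (sq.isIso_snd_of_isIso)).2 hx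

/-- Data of the structure induced on a coherent submodule. -/
theorem hilb_induced (hL : CohB1.IsAmple L) {I : X.IdealSheafData} {E : X.Modules} (hE : Coh.IsCoh E)
    {𝓔 : ParSh.Str E} (h𝓔 : 𝓔.Along I)
    (hcoh : ∀ j, Coh.IsCoh ((𝓔.pieceX j : Subobject E) : X.Modules)) {d : ℕ}
    (hsupp : topologicalKrullDim ↥(CohB1.support E ∩ (I.support : Set X)) < (d : WithBot ℕ∞))
    {W : X.Modules} (ι : W ⟶ E) [Mono ι] (hW : Coh.IsCoh W)
    {Q : Polynomial ℚ} (hQ : ShStab.IsHilbPoly k X L W Q) {QX : Fin (𝓔.l + 2) → Polynomial ℚ}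
    (hQX : ∀ j, ShStab.IsHilbPoly k X L (((𝓔.induced ι).pieceX j : Subobject W) : X.Modules) (QX j)) :
    QX 0 = Q ∧ (∀ j n, d ≤ n → (Q - QX j).coeff n = 0) ∧
      ∀ j, ShStab.IsHilbPoly k X L (cokernel ((𝓔.induced ι).pieceX j).arrow) (Q - QX j) := by
  have hc : ∀ j, Coh.IsCoh (((𝓔.induced ι).pieceX j : Subobject W) : X.Modules) := fun j => by
    erw [induced_pieceX]
    exact isCoh_pullback_sub k hL hE hW _ (hcoh j) ι
  have hq := fun j => (polyLE_of_mono (k := k) hL (hc j) hW ((𝓔.induced ι).pieceX j).arrow (hQX j) hQ).2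
  refine ⟨?_, fun j n hn => ?_, hq⟩
  · have h0 : (𝓔.induced ι).pieceX 0 = ⊤ := ((𝓔.induced ι).pieceX_castSucc 0).trans (𝓔.induced ι).piece_zero
    haveI : IsIso ((𝓔.induced ι).pieceX 0).arrow := by rw [h0]; infer_instance
    refine hilbPoly_unique (F := W) (fun m => ?_) hQ
    exact (congrArg (fun z : ℤ => (z : ℚ))
      (chi_congr (k := k) (L := L) (asIso ((𝓔.induced ι).pieceX 0).arrow) m).symm).trans (hQX 0 m)
  · refine coeff_hilbPoly_eq_zero (k := k) hL (H10Coh.isCoh_cokernel _ (hc j).1 hW) (hq j) ?_ hn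
    exact lt_of_le_of_lt (Topology.IsInducing.topologicalKrullDim_le
      (f := Set.inclusion (support_cokernel_induced h𝓔 ι j)) (Topology.IsEmbedding.inclusion _).isInducing) hsupp

end induced

end Groth.Agent.H25Euler
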