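import Groth.Agent.H25Euler.Lead
import Groth.Agent.H25Euler.Mult
import Groth.Agent.H25Euler.ParPoly
import Groth.Agent.H29Ref.Generic
import Groth.Agent.H11Ample.Global

/-!
# The top coefficient of the Hilbert polynomial is the generic rank times that of the variety
-/

set_option autoImplicit false
set_option linter.style.haveILetI false
universe u

open CategoryTheory CategoryTheory.Limits AlgebraicGeometry Opposite TopologicalSpace
open Groth.Agent

noncomputable section

namespace Groth.Agent.H25Euler

variable {X : Scheme.{u}} [IsIntegral X]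

/-- The rank of a module at the generic point. -/
def genRank (F : X.Modules) : ℕ :=
  Module.finrank (X.presheaf.stalk (genericPoint X)) ((DerSch.stalkFunctor X (genericPoint X)).obj F)

theorem genRank_structure : genRank (Coh.structureModule X) = 1 := by
  let e := H06EGA9.bijective_smul_oneStalk (X := X) (genericPoint X)
  let f := LinearMap.toSpanSingleton (X.presheaf.stalk (genericPoint X))
    ((DerSch.stalkFunctor X (genericPoint X)).obj (Coh.structureModule X))
    (H06EGA9.oneStalk (genericPoint X))
  exact ((LinearEquiv.ofBijective f e).finrank_eq.symm).trans (Module.finrank_self _)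

theorem finrank_add_of_shortExact {K : Type u} [CommRing K] (hK : IsField K)
    {S : ShortComplex (ModuleCat.{u} K)} (hS : S.ShortExact) [Module.Finite K S.X₂] :
    Module.finrank K S.X₂ = Module.finrank K S.X₁ + Module.finrank K S.X₃ := by
  letI : Field K := hK.toField
  haveI := hS.mono_f
  haveI := hS.epi_g
  have h := LinearMap.finrank_range_add_finrank_ker S.g.hom
  rw [← LinearMap.finrank_range_of_inj ((ModuleCat.mono_iff_injective S.f).1 inferInstance),
    hS.exact.moduleCat_range_eq_ker]
  rw [LinearMap.range_eq_top.2 ((ModuleCat.epi_iff_surjective S.g).1 inferInstance), finrank_top] at h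
  omega

variable [IsLocallyNoetherian X]

set_option linter.unusedSectionVars false

theorem genRank_add {S : ShortComplex X.Modules} (hS : S.ShortExact) (h₂ : Coh.IsCoh S.X₂) :
    genRank S.X₂ = genRank S.X₁ + genRank S.X₃ := by
  haveI : Module.Finite (X.presheaf.stalk (genericPoint X))
      ((DerSch.stalkFunctor X (genericPoint X)).obj S.X₂) := H29Ref.finite_stalk _ h₂.2 _
  haveI : Module.Finite (X.presheaf.stalk (genericPoint X))
      (S.map (DerSch.stalkFunctor X (genericPoint X))).X₂ := ‹_›
  exact finrank_add_of_shortExact (H29Ref.isField_generic)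
    (S := S.map (DerSch.stalkFunctor X (genericPoint X))) (hS.map_of_exact _)

theorem genRank_tensor_invertible (F : X.Modules) {M : X.Modules} (hM : PicF.IsInvertible M) :
    genRank (CohB1.tensorMod F M) = genRank F := by
  letI : Field (X.presheaf.stalk (genericPoint X)) := H29Ref.isField_generic.toField
  obtain ⟨V, e, hV, he⟩ := H11Ample.exists_gen hM (genericPoint X)
  let φ := LinearEquiv.ofBijective (LinearMap.toSpanSingleton (X.presheaf.stalk (genericPoint X)) _
    (M.presheaf.germ V (genericPoint X) hV e)) (he _ hV)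
  let η := genericPoint X
  have e1 := ((H16Derived.KFlat.Stalk.rightIso M η).app F).toLinearEquiv
  refine e1.finrank_eq.trans ?_
  show Module.finrank _ (TensorProduct (X.presheaf.stalk η) ((DerSch.stalkFunctor X η).obj F)
    ((DerSch.stalkFunctor X η).obj M)) = _
  exact ((TensorProduct.congr (LinearEquiv.refl _ _) φ.symm).trans (TensorProduct.rid _ _)).finrank_eq

theorem notMem_support_of_genRank_eq_zero {F : X.Modules} (hF : Coh.IsCoh F) (h : genRank F = 0) :
    genericPoint X ∉ CohB1.support F := by
  letI : Field (X.presheaf.stalk (genericPoint X)) := H29Ref.isField_generic.toField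
  haveI : Module.Finite (X.presheaf.stalk (genericPoint X))
      ((DerSch.stalkFunctor X (genericPoint X)).obj F) := H29Ref.finite_stalk _ hF.2 _
  rw [notMem_support_iff, ModuleCat.isZero_iff_subsingleton]
  exact Module.finrank_zero_iff.1 h

/-- A coherent module of positive generic rank has, after a twist by an ample module, a section which is nonzero
at the generic point. -/
theorem exists_section_generic [CompactSpace X] [QuasiSeparatedSpace X] {L F : X.Modules}
    (hL : CohB1.IsAmple L) (hF : Coh.IsCoh F) (h : genRank F ≠ 0) :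
    ∃ (a : ℕ) (t : Γ(CohB1.tensorMod F (CohB1.tensorPow L a), ⊤)),
      (CohB1.tensorMod F (CohB1.tensorPow L a)).presheaf.germ ⊤ (genericPoint X) trivial t ≠ 0 := by
  obtain ⟨n₀, hn₀⟩ := H11Ample.eventually_spanning hL hF
  refine ⟨n₀, ?_⟩
  set M := CohB1.tensorMod F (CohB1.tensorPow L n₀)
  obtain ⟨ι, _, g, hg⟩ := hn₀ n₀ le_rfl
  by_contra! hall
  have hM : CohB1.support M = CohB1.support F :=
    support_tensor_invertible hF (H11Ample.isInvertible_tensorPow hL.1 n₀)
  have hη : genericPoint X ∈ CohB1.support M := by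
    rw [hM]
    intro hs
    haveI : Subsingleton ((DerSch.stalkFunctor X (genericPoint X)).obj F) := hs
    exact h Module.finrank_zero_of_subsingleton
  refine hη ?_
  refine ⟨fun a b => ?_⟩
  have key : ∀ a : M.presheaf.stalk (genericPoint X), a = 0 := by
    intro a
    obtain ⟨W, hW, t, rfl⟩ := M.presheaf.exists_germ_eq a
    obtain ⟨V, hV, hxV, hspan⟩ := hg W t _ hW
    rw [← TopCat.Presheaf.germ_res_apply M.presheaf (homOfLE hV) _ hxV]
    generalize M.presheaf.map (homOfLE hV).op t = u at hspan ⊢
    induction hspan using Submodule.span_induction with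
    | mem x hx =>
      obtain ⟨i, rfl⟩ := hx
      rw [TopCat.Presheaf.germ_res_apply]
      exact hall _
    | zero => exact map_zero _
    | add x y _ _ hx hy => rw [map_add, hx, hy, add_zero]
    | smul r x _ hx => rw [H06Mod.germ_smul, hx, smul_zero]
  rw [key a, key b]

theorem stalkMap_eq_zero_of_factor {A B C : X.Modules} (s : A ⟶ C) (p : A ⟶ B) (j : B ⟶ C) (h : p ≫ j = s)
    {x : X} (hB : x ∉ CohB1.support B) : (DerSch.stalkFunctor X x).map s = 0 := by
  rw [← h, Functor.map_comp, ((notMem_support_iff B x).1 hB).eq_of_tgt ((DerSch.stalkFunctor X x).map p) 0,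
    zero_comp]

theorem stalkMap_homOfGlobal_ne_zero (E : X.Modules) (t : Γ(E, ⊤)) (x : X)
    (ht : E.presheaf.germ ⊤ x trivial t ≠ 0) :
    (DerSch.stalkFunctor X x).map (H11Tilde.homOfGlobal E t) ≠ 0 := by
  intro h
  refine ht ?_
  have h2 : H06Mod.stalkLin (H11Tilde.homOfGlobal E t) x
      ((Coh.structureModule X).presheaf.germ ⊤ x trivial (1 : Γ(X, ⊤))) = 0 :=
    LinearMap.congr_fun (congrArg ModuleCat.Hom.hom h) _
  have h3 := (H06Mod.stalkLin_germ (H11Tilde.homOfGlobal E t) x ⊤ trivial _).symm.trans h2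
  refine Eq.trans ?_ h3
  refine Eq.trans ?_ (congrArg (E.presheaf.germ ⊤ x trivial)
    (H11Tilde.homOfGlobal_app E t ⊤ (1 : Γ(X, ⊤))).symm)
  refine Eq.trans ?_ (congrArg (E.presheaf.germ ⊤ x trivial) (one_smul Γ(X, ⊤) _).symm)
  exact (TopCat.Presheaf.germ_res_apply E.presheaf (homOfLE (le_top : (⊤ : X.Opens) ≤ ⊤)) x trivial t).symm

variable (k : Type u) [Field k] [X.Over (Spec (CommRingCat.of k))] [IsProper (X ↘ Spec (CommRingCat.of k))]
  {L : X.Modules}

/-- The top coefficient of the Hilbert polynomial of a coherent module on a variety is the generic rank times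
the top coefficient of the structure sheaf. -/
theorem coeff_hilbPoly_eq_genRank_mul (hL : CohB1.IsAmple L) {g : ℕ} (hg : topologicalKrullDim X = g)
    {P₀ : Polynomial ℚ} (hP₀ : ShStab.IsHilbPoly k X L (Coh.structureModule X) P₀)
    {F : X.Modules} (hF : Coh.IsCoh F) {P : Polynomial ℚ} (hP : ShStab.IsHilbPoly k X L F P) :
    P.coeff g = genRank F * P₀.coeff g := by
  haveI : CompactSpace X := hL.2.1
  haveI : QuasiSeparatedSpace X := quasiSeparatedSpace_of_quasiSeparated (X ↘ Spec (CommRingCat.of k))
  haveI : IsNoetherian X := {}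
  have hle : ∀ G : X.Modules, topologicalKrullDim (CohB1.support G) < ((g + 1 : ℕ) : WithBot ℕ∞) := fun G =>
    lt_of_le_of_lt ((Topology.IsInducing.topologicalKrullDim_le (f := (Subtype.val : CohB1.support G → X))
      Topology.IsInducing.subtypeVal).trans hg.le) (by exact_mod_cast Nat.lt_succ_self g)
  have hex : ∀ G : X.Modules, Coh.IsCoh G → ∃ Q : Polynomial ℚ, ShStab.IsHilbPoly k X L G Q := fun G hG =>
    exists_hilbPoly (k := k) hL hG (hle G)
  have hsmall : ∀ (G : X.Modules) (Q : Polynomial ℚ), Coh.IsCoh G → ShStab.IsHilbPoly k X L G Q →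
      genRank G = 0 → Q.coeff g = 0 := by
    intro G Q hG hQ h0
    refine coeff_hilbPoly_eq_zero (k := k) hL hG hQ (dim_lt_of_forall_ne (Y := X) (CohB1.support G)
      (H10Coh.isClosed_support G hG.2) (fun y _ => ⟨genericPoint X, genericPoint_specializes y,
        notMem_support_of_genRank_eq_zero hG h0⟩) (hg.le.trans_lt (by exact_mod_cast Nat.lt_succ_self g)))
      le_rfl
  have hadd : ∀ (S : ShortComplex X.Modules), S.ShortExact → Coh.IsCoh S.X₁ → Coh.IsCoh S.X₂ → Coh.IsCoh S.X₃ →
      ∀ {Q₁ Q₂ Q₃ : Polynomial ℚ}, ShStab.IsHilbPoly k X L S.X₁ Q₁ → ShStab.IsHilbPoly k X L S.X₂ Q₂ →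
        ShStab.IsHilbPoly k X L S.X₃ Q₃ → Q₂.coeff g = Q₁.coeff g + Q₃.coeff g := by
    intro S hS h₁ h₂ h₃ Q₁ Q₂ Q₃ q₁ q₂ q₃
    rw [← Polynomial.coeff_add]
    congr 1
    refine hilbPoly_unique q₂ fun m => ?_
    rw [Polynomial.eval_add, ← q₁ m, ← q₃ m]
    exact_mod_cast chi_add (k := k) hL.1 hS h₁ h₂ h₃ m
  obtain ⟨d, hd⟩ : ∃ d, genRank F = d := ⟨_, rfl⟩
  rw [hd]
  induction d generalizing F P with
  | zero => rw [hsmall F P hF hP hd, Nat.cast_zero, zero_mul]
  | succ d ih =>
    obtain ⟨a, t, ht⟩ := exists_section_generic hL hF (by omega)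
    let E := CohB1.tensorMod F (CohB1.tensorPow L a)
    have hE : Coh.IsCoh E := H11Ample.isCoh_tensor hF (H11Ample.isInvertible_tensorPow hL.1 a)
    have hO : Coh.IsCoh (Coh.structureModule X) :=
      H11Ample.isCoh_of_isInvertible H11Ample.isInvertible_structureModule
    have hPE : ShStab.IsHilbPoly k X L E (Polynomial.taylor (a : ℚ) P) := fun m => by
      rw [Polynomial.taylor_eval, ← Nat.cast_add]
      refine Eq.trans ?_ (hP (m + a))
      exact_mod_cast chi_tensorPow (k := k) hL.1 F a m
    have hPg : (Polynomial.taylor (a : ℚ) P).coeff g = P.coeff g := by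
      have h1 := coeff_taylor_sub P (a : ℚ) (d := g) (Polynomial.natDegree_le_iff_coeff_eq_zero.2 fun n hn =>
        coeff_hilbPoly_eq_zero (k := k) hL hF hP (hle F) hn)
      rw [Polynomial.coeff_sub] at h1
      linarith
    obtain ⟨s, hs⟩ : ∃ s : Coh.structureModule X ⟶ E, s = H11Tilde.homOfGlobal E t := ⟨_, rfl⟩
    have hK : Coh.IsCoh (kernel s) := H10Coh.isCoh_kernel s hO hE.1
    let I := cokernel (kernel.ι s)
    have hI : Coh.IsCoh I := H10Coh.isCoh_cokernel _ hK.1 hO
    let j : I ⟶ E := cokernel.desc (kernel.ι s) s (kernel.condition _)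
    haveI : Mono j := inferInstanceAs (Mono (Abelian.factorThruCoimage s))
    have hC : Coh.IsCoh (cokernel j) := H10Coh.isCoh_cokernel _ hI.1 hE
    have hS₁ : (ShortComplex.mk (kernel.ι s) (cokernel.π (kernel.ι s)) (cokernel.condition _)).ShortExact :=
      { exact := ShortComplex.exact_cokernel _ }
    have hS₂ : (ShortComplex.mk j (cokernel.π j) (cokernel.condition _)).ShortExact :=
      { exact := ShortComplex.exact_cokernel _ }
    have r₁ : genRank (Coh.structureModule X) = genRank (kernel s) + genRank I :=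
      genRank_add (S := ShortComplex.mk (kernel.ι s) (cokernel.π (kernel.ι s)) (cokernel.condition _)) hS₁ hO
    have r₂ : genRank E = genRank I + genRank (cokernel j) :=
      genRank_add (S := ShortComplex.mk j (cokernel.π j) (cokernel.condition _)) hS₂ hE
    have rE : genRank E = genRank F :=
      genRank_tensor_invertible F (H11Ample.isInvertible_tensorPow hL.1 a)
    have rI : genRank I ≠ 0 := fun h0 =>
      stalkMap_homOfGlobal_ne_zero E t (genericPoint X) ht (hs ▸ stalkMap_eq_zero_of_factor s
        (cokernel.π (kernel.ι s)) j (cokernel.π_desc _ _ _) (notMem_support_of_genRank_eq_zero hI h0))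
    rw [genRank_structure] at r₁
    obtain ⟨PK, hPK⟩ := hex _ hK
    obtain ⟨PI, hPI⟩ := hex _ hI
    obtain ⟨PC, hPC⟩ := hex _ hC
    have c₁ := hadd _ hS₁ hK hO hI hPK hP₀ hPI
    have c₂ := hadd _ hS₂ hI hE hC hPI hPE hPC
    rw [hsmall _ PK hK hPK (by omega), zero_add] at c₁
    rw [hPg, ← c₁, ih hC hPC (by omega)] at c₂
    rw [c₂]
    push_cast
    ring

end Groth.Agent.H25Euler
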