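import Groth.Agent.H25Euler.Degree
import Groth.Agent.H11Ample.Pullback
import Groth.Agent.H11Ample.Converse

/-!
# Hilbert functions with respect to a pulled back ample module

If the image of the support of `F` under a morphism to a projective scheme has dimension less than `d`, the
Hilbert function of `F` with respect to the pulled back ample module is killed by `d` differences.
-/

set_option autoImplicit false
set_option linter.style.haveILetI false
universe u

open CategoryTheory CategoryTheory.Limits AlgebraicGeometry Opposite TopologicalSpace MonoidalCategory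
open Groth.Agent Groth.Agent.H11Ample

namespace Groth.Agent.H25Euler

/-- Hilbert functions of modules with small image are killed by few differences. -/
theorem kill_chi_pullback {k : Type u} [Field k] {X Y : Scheme.{u}} [X.Over (Spec (CommRingCat.of k))]
    [IsProper (X ↘ Spec (CommRingCat.of k))] [IsNoetherian Y] (f : X ⟶ Y) (hf : IsClosedMap f) {M : Y.Modules}
    (hM : CohB1.IsAmple M) (d : ℕ) : ∀ F : X.Modules, Coh.IsCoh F →
    topologicalKrullDim (f '' CohB1.support F) < (d : WithBot ℕ∞) →
      Kill d (chi k ((Scheme.Modules.pullback f).obj M) F) := by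
  have hL := isInvertible_pullback f hM.1
  induction d with
  | zero =>
    intro F hF hdim m
    have hempty : IsEmpty (f '' CohB1.support F) := by
      by_contra hne
      rw [not_isEmpty_iff] at hne
      haveI := hne
      refine absurd hdim (not_lt.2 ?_)
      obtain ⟨x⟩ := hne
      haveI : Nonempty (IrreducibleCloseds (f '' CohB1.support F)) :=
        ⟨⟨closure {x}, isIrreducible_singleton.closure, isClosed_closure⟩⟩
      exact Order.krullDim_nonneg
    have hz : IsZero F := H16Derived.KFlat.Stalk.isZero_of_stalk fun x =>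
      (notMem_support_iff F x).1 fun hx => hempty.false ⟨f x, x, hx, rfl⟩
    exact euler_eq_zero_of_isZero (M := ShStab.twist X _ F m)
      ((((DCoh.tensorBi (X := X)).flip.obj (CohB1.tensorPow _ m)).map_isZero hz).of_iso
        (eqToIso (tensorBi_flip_obj F (CohB1.tensorPow _ m)).symm))
  | succ d ih =>
    intro F hF hdim
    haveI : CompactSpace X := QuasiCompact.compactSpace_of_compactSpace (X ↘ Spec (CommRingCat.of k))
    haveI : QuasiSeparatedSpace X := quasiSeparatedSpace_of_quasiSeparated (X ↘ Spec (CommRingCat.of k))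
    haveI : IsLocallyNoetherian X := LocallyOfFiniteType.isLocallyNoetherian (X ↘ Spec (CommRingCat.of k))
    haveI : IsNoetherian X := {}
    have hYc : IsClosed (f '' CohB1.support F) := hf _ (H10Coh.isClosed_support F hF.2)
    haveI : QuasiSober (f '' CohB1.support F) := hYc.isClosedEmbedding_subtypeVal.quasiSober
    obtain ⟨Z, hZf, hZ⟩ := exists_finite_generizing (f '' CohB1.support F)
    obtain ⟨a, σ, ha, hσ, -, -⟩ := exists_affine_gen_nhd_finite hM (hZf.image Subtype.val)
      (U := ⊤) (fun _ _ => trivial)
    obtain ⟨e⟩ := exists_iso_pullback_tensorPow f hM.1 a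
    let L := (Scheme.Modules.pullback f).obj M
    let σ' : Γ(CohB1.tensorPow L a, ⊤) := e.hom.app ⊤ (pullTop f σ)
    have hgen : gen (CohB1.tensorPow L a) σ' = f ⁻¹ᵁ gen (CohB1.tensorPow M a) σ := by
      rw [gen_iso]
      have := gen_smul_pullSect f (isInvertible_tensorPow hM.1 a) σ (isUnit_one (M := Γ(X, ⊤)))
      rwa [one_smul] at this
    let φ := mulHom F (H11Tilde.homOfGlobal (CohB1.tensorPow L a) σ')
    have hG : Coh.IsCoh (CohB1.tensorMod F (CohB1.tensorPow L a)) :=
      isCoh_tensor hF (isInvertible_tensorPow hL a)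
    have hK := H10Coh.isCoh_kernel φ hF hG.1
    have hC := H10Coh.isCoh_cokernel φ hF.1 hG
    have hI := H10Coh.isCoh_kernel (cokernel.π φ) hG hC.1
    have hS₁ : (ShortComplex.mk (kernel.ι φ) (Abelian.factorThruImage φ)
        (by rw [← cancel_mono (Abelian.image.ι φ), Category.assoc, Abelian.image.fac, kernel.condition,
          zero_comp])).ShortExact :=
      { exact := ShortComplex.exact_of_f_is_kernel _ (KernelFork.IsLimit.ofι' _ _ fun g hg =>
          ⟨kernel.lift φ g (by
            rw [← Abelian.image.fac φ, ← Category.assoc, hg, zero_comp]), kernel.lift_ι _ _ _⟩)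
        epi_g := inferInstanceAs (Epi (Abelian.factorThruImage φ)) }
    have hS₂ : (ShortComplex.mk (kernel.ι (cokernel.π φ)) (cokernel.π φ) (kernel.condition _)).ShortExact :=
      { exact := ShortComplex.exact_kernel _ }
    have hsub : ∀ N : X.Modules, Coh.IsCoh N → CohB1.support N ⊆ CohB1.support F →
        (∀ x ∈ gen (CohB1.tensorPow L a) σ', x ∉ CohB1.support N) →
        Kill d (chi k L N) := by
      intro N hN hle hout
      refine ih N hN ?_
      have h := dim_lt_of_forall_ne (Y := f '' CohB1.support F) (Subtype.val ⁻¹' (f '' CohB1.support N))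
        ((hf _ (H10Coh.isClosed_support N hN.2)).preimage continuous_subtype_val) (fun y hy => ?_) hdim
      · let e' : f '' CohB1.support N ≃ₜ (Subtype.val ⁻¹' (f '' CohB1.support N) : Set (f '' CohB1.support F)) :=
          { toFun := fun x => ⟨⟨x.1, Set.image_mono hle x.2⟩, x.2⟩
            invFun := fun x => ⟨x.1.1, x.2⟩
            left_inv := fun _ => rfl
            right_inv := fun _ => rfl }
        rwa [e'.isHomeomorph.topologicalKrullDim_eq]
      · obtain ⟨η, hη, hηy⟩ := hZ y
        refine ⟨η, hηy, fun h => ?_⟩
        obtain ⟨x, hx, hxη⟩ := h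
        have h1 : f x ∈ gen (CohB1.tensorPow M a) σ := hxη ▸ hσ ⟨η, hη, rfl⟩
        exact hout x (hgen ▸ h1) hx
    have hφ := fun x (hx : x ∈ gen (CohB1.tensorPow L a) σ') =>
      notMem_support_kernel_cokernel φ (x := x) (isIso_stalk_mulHom F _ hx)
    have k1 := hsub _ hK (support_X₁_X₃ hS₁).1 fun x hx => (hφ x hx).1
    have k3 := hsub _ hC ((support_X₁_X₃ hS₂).2.trans (support_tensor_subset _ _)) fun x hx => (hφ x hx).2
    refine ⟨a, ha, (congrArg (Kill d) (funext fun m => ?_)).mp (k3.add k1.neg)⟩
    have e1 := chi_add (k := k) hL hS₁ hK hF hI m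
    have e2 := chi_add (k := k) hL hS₂ hI hG hC m
    rw [← chi_tensorPow hL F a m]
    change chi k L F m = _ at e1
    change chi k L (CohB1.tensorMod F (CohB1.tensorPow L a)) m = _ at e2
    rw [e1, e2]
    show _ = _ + _ - (_ + chi k L (kernel (cokernel.π φ)) m)
    ring

end Groth.Agent.H25Euler
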