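import Mathlib.LinearAlgebra.Lagrange
import Mathlib.RingTheory.MvPolynomial.Homogeneous
import Mathlib.Algebra.MvPolynomial.Funext
import Mathlib.Algebra.Polynomial.Roots
import Mathlib.Algebra.Polynomial.AlgebraMap
import Mathlib.Algebra.MvPolynomial.Equiv
import Mathlib.Data.Fin.Tuple.Basic

/-!
# Functions on a lattice which are polynomial of bounded degree on lines

A function on `ℤ^r` which is polynomial of degree at most `g` on every line with direction in the positive
orthant is given by a polynomial of total degree at most `g`.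
-/

set_option autoImplicit false

open MvPolynomial

namespace Groth.Agent.H25Euler

noncomputable section

variable {σ : Type*}

/-- The restriction of a polynomial to the line spanned by `v`. -/
def lineRes (v : σ → ℚ) (P : MvPolynomial σ ℚ) : Polynomial ℚ :=
  aeval (fun i => Polynomial.C (v i) * Polynomial.X) P

theorem eval_lineRes (v : σ → ℚ) (P : MvPolynomial σ ℚ) (t : ℚ) :
    (lineRes v P).eval t = eval (fun i => v i * t) P := by
  induction P using MvPolynomial.induction_on with
  | C a => simp [lineRes]
  | add p q hp hq => simp only [lineRes, map_add, Polynomial.eval_add] at hp hq ⊢; rw [hp, hq]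
  | mul_X p i hp =>
    simp only [lineRes, map_mul, aeval_X, Polynomial.eval_mul] at hp ⊢
    simp [hp]

theorem lineRes_of_isHomogeneous (v : σ → ℚ) {H : MvPolynomial σ ℚ} {j : ℕ} (hH : H.IsHomogeneous j) :
    lineRes v H = Polynomial.monomial j (eval v H) := by
  conv_lhs => rw [H.as_sum]
  conv_rhs => rw [H.as_sum]
  simp only [lineRes, map_sum]
  refine Finset.sum_congr rfl fun d hd => ?_
  have hd' : d.degree = j := by
    by_contra hne
    exact (MvPolynomial.mem_support_iff.1 hd) (hH.coeff_eq_zero hne)
  rw [aeval_monomial, eval_monomial]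
  simp only [Finsupp.prod, mul_pow, Finset.prod_mul_distrib, ← Polynomial.C_pow, ← map_prod,
    Finset.prod_pow_eq_pow_sum, Polynomial.algebraMap_apply, Algebra.algebraMap_self, RingHom.id_apply]
  rw [← mul_assoc, ← Polynomial.C_mul, Polynomial.C_mul_X_pow_eq_monomial]
  congr 1
  rw [← hd']
  rfl

/-- The coefficients of a restriction to a line are the values of the homogeneous components. -/
theorem coeff_lineRes (v : σ → ℚ) (P : MvPolynomial σ ℚ) (j : ℕ) :
    (lineRes v P).coeff j = eval v (homogeneousComponent j P) := by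
  conv_lhs => rw [← P.sum_homogeneousComponent]
  have h : ∀ i, lineRes v (homogeneousComponent i P) = Polynomial.monomial i (eval v (homogeneousComponent i P)) :=
    fun i => lineRes_of_isHomogeneous v (homogeneousComponent_isHomogeneous i P)
  simp only [lineRes] at h
  simp only [lineRes, map_sum, Polynomial.finsetSum_coeff, h, Polynomial.coeff_monomial]
  rw [Finset.sum_ite_eq']
  split_ifs with h
  · rfl
  · rw [homogeneousComponent_eq_zero _ _ (by simpa [Nat.lt_succ_iff, not_le] using h), map_zero]

theorem eval_aeval_X (x : σ → ℚ) (i : σ) (p : Polynomial ℚ) :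
    eval x (Polynomial.aeval (X i) p) = p.eval (x i) := by
  induction p using Polynomial.induction_on' with
  | add p q hp hq => simp only [map_add, Polynomial.eval_add, hp, hq]
  | monomial n a => simp [Polynomial.aeval_monomial]

/-- Polynomiality in each variable gives a polynomial. -/
theorem exists_mvPolynomial_of_axis (g : ℕ) : ∀ (r : ℕ) (f : (Fin r → ℤ) → ℚ),
    (∀ (b : Fin r → ℤ) (i : Fin r), ∃ P : Polynomial ℚ, P.natDegree ≤ g ∧ ∀ t : ℤ, f (b + t • Pi.single i (1 : ℤ)) = P.eval (t : ℚ)) →
    ∃ P : MvPolynomial (Fin r) ℚ, ∀ b, f b = eval (fun i => (b i : ℚ)) P := by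
  intro r
  induction r with
  | zero => exact fun f _ => ⟨C (f 0), fun b => by rw [eval_C]; exact congrArg f (Subsingleton.elim _ _)⟩
  | succ r ih =>
    intro f hf
    have h1 : ∀ i : ℕ, ∃ P : MvPolynomial (Fin r) ℚ, ∀ b, f (Fin.cons (i : ℤ) b) = eval (fun j => (b j : ℚ)) P := by
      refine fun i => ih _ fun b j => ?_
      obtain ⟨P, hP, hPe⟩ := hf (Fin.cons (i : ℤ) b) j.succ
      refine ⟨P, hP, fun t => (congrArg f ?_).trans (hPe t)⟩
      funext l
      refine Fin.cases ?_ (fun l => ?_) l
      · simp [Fin.succ_ne_zero j |>.symm]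
      · simp [Pi.single_apply]
    choose Q hQ using h1
    refine ⟨∑ i ∈ Finset.range (g + 1),
      Polynomial.aeval (X 0) (Lagrange.basis (Finset.range (g + 1)) (fun n : ℕ => (n : ℚ)) i) *
        rename Fin.succ (Q i), fun b => ?_⟩
    obtain ⟨P, hP, hPe⟩ := hf (Fin.cons 0 (Fin.tail b)) 0
    have hcons : ∀ t : ℤ, (Fin.cons 0 (Fin.tail b) + t • Pi.single 0 1 : Fin (r + 1) → ℤ) = Fin.cons t (Fin.tail b) := by
      intro t
      funext l
      refine Fin.cases ?_ (fun l => ?_) l
      · simp
      · simp [Fin.succ_ne_zero l]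
    simp only [hcons] at hPe
    have hb : f b = P.eval ((b 0 : ℤ) : ℚ) := by rw [← hPe (b 0), Fin.cons_self_tail]
    have hI := Lagrange.eq_interpolate (f := P) (s := Finset.range (g + 1)) (v := fun n : ℕ => (n : ℚ))
      (fun x _ y _ h => Nat.cast_injective h)
      (lt_of_le_of_lt Polynomial.degree_le_natDegree (by rw [Finset.card_range]; exact_mod_cast Nat.lt_succ_of_le hP))
    rw [hb, hI, Lagrange.interpolate_apply, Polynomial.eval_finsetSum, map_sum]
    refine Finset.sum_congr rfl fun i _ => ?_
    rw [Polynomial.eval_mul, Polynomial.eval_C, map_mul, eval_aeval_X, eval_rename, mul_comm]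
    congr 1
    have := hPe i
    rw [hQ] at this
    push_cast at this
    exact this.symm

/-- Polynomiality of bounded degree on positive lines gives a polynomial of bounded total degree. -/
theorem exists_mvPolynomial_of_lines {r : ℕ} (g : ℕ) (f : (Fin r → ℤ) → ℚ)
    (hf : ∀ (b : Fin r → ℤ) (v : Fin r → ℕ), 0 < ∑ i, v i →
      ∃ P : Polynomial ℚ, P.natDegree ≤ g ∧ ∀ t : ℤ, f (b + t • fun i => (v i : ℤ)) = P.eval (t : ℚ)) :
    ∃ P : MvPolynomial (Fin r) ℚ, P.totalDegree ≤ g ∧ ∀ b, f b = eval (fun i => (b i : ℚ)) P := by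
  obtain ⟨P, hP⟩ := exists_mvPolynomial_of_axis g r f fun b i => by
    obtain ⟨Q, hQ, hQe⟩ := hf b (Pi.single i 1) (by simp)
    refine ⟨Q, hQ, fun t => (congrArg f ?_).trans (hQe t)⟩
    congr 2
    funext l
    simp [Pi.single_apply]
  refine ⟨P, ?_, hP⟩
  by_contra hlt
  rw [not_le] at hlt
  have hzero : homogeneousComponent P.totalDegree P = 0 := by
    refine funext_set (fun _ => Set.range fun n : ℕ => ((n + 1 : ℕ) : ℚ))
      (fun _ => Set.infinite_range_of_injective fun a b h => by
        exact Nat.succ_injective (Nat.cast_injective h)) fun x hx => ?_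
    have hx' : ∀ i, ∃ n : ℕ, ((n + 1 : ℕ) : ℚ) = x i := fun i => hx i (Set.mem_univ i)
    choose n hn using hx'
    rw [map_zero, ← coeff_lineRes]
    rcases isEmpty_or_nonempty (Fin r) with h | h
    · exact absurd hlt (by rw [MvPolynomial.totalDegree_eq_zero_iff (p := P) |>.2 fun m hm x => (IsEmpty.false x).elim]; simp)
    obtain ⟨Q, hQ, hQe⟩ := hf 0 (fun i => n i + 1)
      (Finset.sum_pos (fun i _ => Nat.succ_pos _) Finset.univ_nonempty)
    have he : lineRes x P = Q := Polynomial.eq_of_infinite_eval_eq _ _
      (Set.Infinite.mono (by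
        rintro _ ⟨t, rfl⟩
        show (lineRes x P).eval ((t : ℕ) : ℚ) = Q.eval ((t : ℕ) : ℚ)
        rw [eval_lineRes]
        have := hQe t
        rw [hP] at this
        push_cast at this
        rw [← this]
        congr 2
        funext i
        rw [← hn i]
        simp [mul_comm])
        (Set.infinite_range_of_injective (f := fun m : ℕ => (m : ℚ)) Nat.cast_injective))
    rw [he, Polynomial.coeff_eq_zero_of_natDegree_lt (lt_of_le_of_lt hQ hlt)]
  have hne : P ≠ 0 := fun h => by simp [h] at hlt
  obtain ⟨d, hd, hdeg⟩ := Finset.exists_mem_eq_sup P.support (support_nonempty.2 hne) fun s => s.sum fun _ e => e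
  have hc := congrArg (coeff d) hzero
  rw [coeff_homogeneousComponent, if_pos (by rw [MvPolynomial.totalDegree, hdeg]; rfl), coeff_zero] at hc
  exact (MvPolynomial.mem_support_iff.1 hd) hc

end

end Groth.Agent.H25Euler
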