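import Groth.Agent.H25Euler.Mult

/-!
# Bounds for the weight of a multi-index of a weighted filtration
-/

set_option autoImplicit false
universe v u

open CategoryTheory CategoryTheory.Limits

namespace Groth.Agent.H25Euler

variable {C : Type u} [Category.{v} C] {E : C} (𝓕 : DecSh.WFilt E) (αE : ℤ) (α : Subobject E → ℤ) {a : ℕ}

theorem nu_le (I : Fin a → Fin (𝓕.t + 1)) (i : Fin 𝓕.t) : 𝓕.nu αE α I i ≤ a :=
  (Finset.card_filter_le _ _).trans (le_of_eq (by simp))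

theorem mulX_le (hle : ∀ i, α (𝓕.piece i) ≤ αE) (j : Fin (𝓕.t + 1)) : 𝓕.mulX αE α j ≤ αE := by
  rcases Fin.eq_castSucc_or_eq_last j with ⟨i, rfl⟩ | rfl
  · rw [DecSh.WFilt.mulX_castSucc]; exact hle i
  · rw [DecSh.WFilt.mulX_last]

theorem nu_eq_of_eq (hle : ∀ i, α (𝓕.piece i) ≤ αE) (I : Fin a → Fin (𝓕.t + 1)) {i : Fin 𝓕.t}
    (h : α (𝓕.piece i) = αE) : 𝓕.nu αE α I i = a := by
  rw [DecSh.WFilt.nu, Finset.filter_true_of_mem (fun j _ => h ▸ mulX_le 𝓕 αE α hle (I j))]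
  simp

/-- A term of the weight of a multi-index. -/
noncomputable def term (I : Fin a → Fin (𝓕.t + 1)) (i : Fin 𝓕.t) : ℚ :=
  (a : ℚ) * (α (𝓕.piece i) : ℚ) - (𝓕.nu αE α I i : ℚ) * (αE : ℚ)

theorem gam_eq (I : Fin a → Fin (𝓕.t + 1)) : 𝓕.gam αE α I = ∑ i, 𝓕.wt i * term 𝓕 αE α I i := rfl

theorem le_term (hpos : ∀ i, 1 ≤ α (𝓕.piece i)) (hE : 0 ≤ αE) (I : Fin a → Fin (𝓕.t + 1)) (i : Fin 𝓕.t) :
    -((a : ℚ) * ((αE : ℚ) - 1)) ≤ term 𝓕 αE α I i := by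
  have h1 : (1 : ℚ) ≤ (α (𝓕.piece i) : ℚ) := by exact_mod_cast hpos i
  have h2 : (𝓕.nu αE α I i : ℚ) ≤ (a : ℚ) := by exact_mod_cast nu_le 𝓕 αE α I i
  have h3 : (0 : ℚ) ≤ (αE : ℚ) := by exact_mod_cast hE
  have h4 : (0 : ℚ) ≤ (a : ℚ) := Nat.cast_nonneg _
  rw [term]
  nlinarith

theorem term_le (hle : ∀ i, α (𝓕.piece i) ≤ αE) (hE : 1 ≤ αE) (I : Fin a → Fin (𝓕.t + 1)) (i : Fin 𝓕.t) :
    term 𝓕 αE α I i ≤ (a : ℚ) * ((αE : ℚ) - 1) := by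
  have h3 : (1 : ℚ) ≤ (αE : ℚ) := by exact_mod_cast hE
  have h4 : (0 : ℚ) ≤ (a : ℚ) := Nat.cast_nonneg _
  rw [term]
  rcases (hle i).lt_or_eq with h | h
  · have h1 : (α (𝓕.piece i) : ℚ) ≤ (αE : ℚ) - 1 := by
      have : α (𝓕.piece i) ≤ αE - 1 := by omega
      exact_mod_cast this
    have h2 : (0 : ℚ) ≤ (𝓕.nu αE α I i : ℚ) := Nat.cast_nonneg _
    nlinarith
  · rw [nu_eq_of_eq 𝓕 αE α hle I h, h]
    nlinarith

theorem abs_gam_le (hpos : ∀ i, 1 ≤ α (𝓕.piece i)) (hle : ∀ i, α (𝓕.piece i) ≤ αE) (hE : 1 ≤ αE)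
    (I : Fin a → Fin (𝓕.t + 1)) : |𝓕.gam αE α I| ≤ (∑ i, 𝓕.wt i) * (a : ℚ) * ((αE : ℚ) - 1) := by
  rw [mul_assoc, Finset.sum_mul, gam_eq]
  refine (Finset.abs_sum_le_sum_abs _ _).trans (Finset.sum_le_sum fun i _ => ?_)
  rw [abs_mul, abs_of_pos (𝓕.wt_pos i)]
  exact mul_le_mul_of_nonneg_left (abs_le.2 ⟨le_term 𝓕 αE α hpos (by omega) I i, term_le 𝓕 αE α hle hE I i⟩)
    (𝓕.wt_pos i).le

/-- Dropping steps of a filtration. -/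
theorem mu_le_sub (𝓕₁ : DecSh.WFilt E) (e : Fin 𝓕₁.t → Fin 𝓕.t) (hpiece : ∀ j, 𝓕₁.piece j = 𝓕.piece (e j))
    (hwt : ∀ j, 𝓕₁.wt j = 𝓕.wt (e j)) (hle : ∀ i, α (𝓕.piece i) ≤ αE) (hE : 1 ≤ αE) (N : DecSh.NV E a) :
    𝓕.mu αE α N ≤
      𝓕₁.mu αE α N + ((∑ i, 𝓕.wt i) - ∑ j, 𝓕₁.wt j) * (a : ℚ) * ((αE : ℚ) - 1) := by
  classical
  have hmem := Finset.min'_mem _ (𝓕₁.gamSet_nonempty αE α N)
  obtain ⟨I₁, hI₁, hI₁e⟩ := Finset.mem_image.1 hmem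
  have hadm : 𝓕₁.Adm N I₁ := (Finset.mem_filter.1 hI₁).2
  have he : Function.Injective e := fun j j' h => 𝓕₁.piece_strictMono.injective (by rw [hpiece, hpiece, h])
  let g : Fin (𝓕₁.t + 1) → Fin (𝓕.t + 1) := Fin.lastCases (Fin.last _) fun j => (e j).castSucc
  let I : Fin a → Fin (𝓕.t + 1) := fun l => g (I₁ l)
  have hX : ∀ j, 𝓕.pieceX (g j) = 𝓕₁.pieceX j := fun j => by
    rcases Fin.eq_castSucc_or_eq_last j with ⟨j', rfl⟩ | rfl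
    · simp [g, hpiece]
    · simp [g]
  have hM : ∀ j, 𝓕.mulX αE α (g j) = 𝓕₁.mulX αE α j := fun j => by
    rcases Fin.eq_castSucc_or_eq_last j with ⟨j', rfl⟩ | rfl
    · simp [g, hpiece]
    · simp [g]
  have hI : 𝓕.Adm N I := by
    show N.nz fun l => 𝓕.pieceX (g (I₁ l))
    simp only [hX]
    exact hadm
  have hterm : ∀ j, 𝓕.wt (e j) * term 𝓕 αE α I (e j) = 𝓕₁.wt j * term 𝓕₁ αE α I₁ j := fun j => by
    simp only [term, DecSh.WFilt.nu, I, hM, hpiece, hwt]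
  refine (𝓕.mu_le_gam αE α N hI).trans ?_
  rw [show 𝓕₁.mu αE α N = 𝓕₁.gam αE α I₁ from hI₁e.symm, gam_eq, gam_eq,
    ← Finset.sum_compl_add_sum (Finset.univ.image e) (fun i => 𝓕.wt i * term 𝓕 αE α I i),
    ← Finset.sum_compl_add_sum (Finset.univ.image e) 𝓕.wt,
    Finset.sum_image he.injOn, Finset.sum_image he.injOn]
  simp only [hterm]
  simp only [← hwt, add_sub_cancel_right]
  have h : ∑ i ∈ (Finset.univ.image e)ᶜ, 𝓕.wt i * term 𝓕 αE α I i ≤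
      (∑ i ∈ (Finset.univ.image e)ᶜ, 𝓕.wt i) * ((a : ℚ) * ((αE : ℚ) - 1)) := by
    rw [Finset.sum_mul]
    exact Finset.sum_le_sum fun i _ => mul_le_mul_of_nonneg_left (term_le 𝓕 αE α hle hE I i) (𝓕.wt_pos i).le
  simp only [mul_assoc] at h ⊢
  linarith [h]

/-- The lower bound for `μ` of a one step filtration. -/
theorem le_mu_single (P : Subobject E) (hP : P ≠ ⊤) (hP0 : ¬ IsZero (P : C)) (hE : 0 ≤ αE) (N : DecSh.NV E a) :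
    (a : ℚ) * ((α P : ℚ) - (αE : ℚ)) ≤ (DecSh.WFilt.single P hP hP0).mu αE α N := by
  classical
  refine Finset.le_min' _ _ _ fun y hy => ?_
  obtain ⟨I, -, rfl⟩ := Finset.mem_image.1 hy
  have h2 : ((DecSh.WFilt.single P hP hP0).nu αE α I (0 : Fin 1) : ℚ) ≤ (a : ℚ) := by
    exact_mod_cast nu_le (DecSh.WFilt.single P hP hP0) αE α I (0 : Fin 1)
  have h3 : (0 : ℚ) ≤ (αE : ℚ) := by exact_mod_cast hE
  show _ ≤ ∑ i : Fin 1, _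
  rw [Fin.sum_univ_one]
  show _ ≤ (1 : ℚ) * ((a : ℚ) * (α P : ℚ) - _)
  nlinarith

theorem msum_single (P : Subobject E) (hP : P ≠ ⊤) (hP0 : ¬ IsZero (P : C)) (dE : ℚ) (d : Subobject E → ℚ) :
    (DecSh.WFilt.single P hP hP0).msum αE α dE d = (αE : ℚ) * d P - (α P : ℚ) * dE := by
  show ∑ i : Fin 1, _ = _
  rw [Fin.sum_univ_one]
  exact one_mul _

end Groth.Agent.H25Euler
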