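import Groth.Agent.H25Euler.Lead
import Groth.Agent.H25Euler.ParOne

/-!
# Weighted combinations of the pieces of two parabolic structures with the same weights
-/

set_option autoImplicit false
set_option linter.style.haveILetI false
universe u v w

open CategoryTheory CategoryTheory.Limits AlgebraicGeometry Opposite TopologicalSpace
open Groth.Agent

namespace Groth.Agent.H25Euler

section comb

variable {C : Type u} [Category.{v} C] {E : C} (𝓔 : ParSh.Str E)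

theorem parPoly_eval_nat (PX : Fin (𝓔.l + 2) → Polynomial ℚ) (m : ℕ) :
    (W4swparbununimod.parPoly 𝓔 PX).eval (m : ℝ) = 𝓔.wtX 0 * (((PX 0).eval (m : ℚ) : ℚ) : ℝ) +
      ∑ j : Fin (𝓔.l + 1), (𝓔.wtX j.succ - 𝓔.wtX j.castSucc) * (((PX j.succ).eval (m : ℚ) : ℚ) : ℝ) := by
  let f : Fin (𝓔.l + 2) → ℝ := fun i => (((PX i).eval (m : ℚ) : ℚ) : ℝ)
  have hcast : ∀ G : Polynomial ℚ, (W4swparbununimod.rpoly G).eval (m : ℝ) = ((G.eval (m : ℚ) : ℚ) : ℝ) := fun G => by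
    rw [show (m : ℝ) = (Rat.castHom ℝ) (m : ℚ) by simp, Polynomial.eval_map_apply]
    rfl
  have e1 := Fin.sum_univ_succ (fun i => 𝓔.wtX i * f i)
  have e2 := Fin.sum_univ_castSucc (fun i => 𝓔.wtX i * f i)
  rw [ParSh.Str.wtX_last, one_mul] at e2
  simp only [W4swparbununimod.parPoly, Polynomial.eval_add, Polynomial.eval_finsetSum, Polynomial.eval_mul,
    Polynomial.eval_C, Polynomial.eval_sub, hcast]
  simp only [f] at e1 e2
  simp only [← 𝓔.wtX_castSucc, mul_sub, sub_mul, Finset.sum_sub_distrib]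
  linarith

theorem parPoly_add (PX QX : Fin (𝓔.l + 2) → Polynomial ℚ) :
    W4swparbununimod.parPoly 𝓔 (fun j => PX j + QX j) =
      W4swparbununimod.parPoly 𝓔 PX + W4swparbununimod.parPoly 𝓔 QX := by
  simp only [W4swparbununimod.parPoly, W4swparbununimod.rpoly, Polynomial.map_add]
  rw [add_add_add_comm, ← Finset.sum_add_distrib]
  congr 1
  exact Finset.sum_congr rfl fun j _ => by ring

theorem wtX_nonneg (j : Fin (𝓔.l + 2)) : 0 ≤ 𝓔.wtX j := by
  induction j using Fin.lastCases with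
  | last => simp
  | cast j => rw [ParSh.Str.wtX_castSucc]; exact 𝓔.wt_nonneg.trans (𝓔.wt_strictMono.monotone (Fin.zero_le _))

theorem wt_lt_one' (j : Fin (𝓔.l + 1)) : 𝓔.wt j < 1 :=
  lt_of_le_of_lt (𝓔.wt_strictMono.monotone (Fin.le_last j)) 𝓔.wt_lt_one

theorem wtX_le_one (j : Fin (𝓔.l + 2)) : 𝓔.wtX j ≤ 1 := by
  induction j using Fin.lastCases with
  | last => simp
  | cast j => rw [ParSh.Str.wtX_castSucc]; exact (wt_lt_one' 𝓔 j).le

theorem diff_pos (j : Fin (𝓔.l + 1)) : 0 < 𝓔.wtX j.succ - 𝓔.wtX j.castSucc := by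
  rw [ParSh.Str.wtX_castSucc, sub_pos]
  rcases Fin.eq_castSucc_or_eq_last j.succ with ⟨i, hi⟩ | hi
  · rw [hi, ParSh.Str.wtX_castSucc]
    exact 𝓔.wt_strictMono (Fin.castSucc_lt_castSucc_iff.1 (hi ▸ Fin.castSucc_lt_succ))
  · rw [hi, ParSh.Str.wtX_last]; exact wt_lt_one' 𝓔 j

theorem parPoly_mono (PX QX : Fin (𝓔.l + 2) → Polynomial ℚ)
    (h : ∀ j, ∃ N : ℕ, ∀ m, N ≤ m → (PX j).eval (m : ℚ) ≤ (QX j).eval (m : ℚ)) :
    ∃ N : ℕ, ∀ m, N ≤ m → (W4swparbununimod.parPoly 𝓔 PX).eval (m : ℝ) ≤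
      (W4swparbununimod.parPoly 𝓔 QX).eval (m : ℝ) := by
  choose N hN using h
  refine ⟨Finset.univ.sup N, fun m hm => ?_⟩
  have hc : ∀ j, (((PX j).eval (m : ℚ) : ℚ) : ℝ) ≤ (((QX j).eval (m : ℚ) : ℚ) : ℝ) := fun j =>
    Rat.cast_le.2 (hN j m ((Finset.le_sup (Finset.mem_univ j)).trans hm))
  rw [parPoly_eval_nat, parPoly_eval_nat]
  exact add_le_add (mul_le_mul_of_nonneg_left (hc 0) (wtX_nonneg 𝓔 0))
    (Finset.sum_le_sum fun j _ => mul_le_mul_of_nonneg_left (hc j.succ) (diff_pos 𝓔 j).le)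

theorem eq_of_parPoly_eq (hw : 0 < 𝓔.wt 0) (PX QX : Fin (𝓔.l + 2) → Polynomial ℚ)
    (h : ∀ j, ∃ N : ℕ, ∀ m, N ≤ m → (PX j).eval (m : ℚ) ≤ (QX j).eval (m : ℚ))
    (he : W4swparbununimod.parPoly 𝓔 PX = W4swparbununimod.parPoly 𝓔 QX) (j : Fin (𝓔.l + 2)) : PX j = QX j := by
  choose N hN using h
  have hw0 : 0 < 𝓔.wtX 0 := by
    rw [show (0 : Fin (𝓔.l + 2)) = (0 : Fin (𝓔.l + 1)).castSucc from rfl, ParSh.Str.wtX_castSucc]; exact hw
  refine Polynomial.eq_of_infinite_eval_eq _ _ (Set.Infinite.mono ?_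
    ((Set.Ici_infinite (Finset.univ.sup N)).image (fun a _ b _ hab => Nat.cast_injective (R := ℚ) hab)))
  rintro _ ⟨m, hm, rfl⟩
  show (PX j).eval (m : ℚ) = (QX j).eval (m : ℚ)
  let δ : Fin (𝓔.l + 2) → ℝ := fun i => (((QX i).eval (m : ℚ) : ℚ) : ℝ) - (((PX i).eval (m : ℚ) : ℚ) : ℝ)
  have hδ : ∀ i, 0 ≤ δ i := fun i =>
    sub_nonneg.2 (Rat.cast_le.2 (hN i m ((Finset.le_sup (Finset.mem_univ i)).trans hm)))
  have h0 : 𝓔.wtX 0 * δ 0 + ∑ i : Fin (𝓔.l + 1), (𝓔.wtX i.succ - 𝓔.wtX i.castSucc) * δ i.succ = 0 := by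
    have e := congrArg (fun p : Polynomial ℝ => p.eval (m : ℝ)) he
    simp only [parPoly_eval_nat] at e
    simp only [δ, mul_sub, Finset.sum_sub_distrib]
    linarith
  have hnn : ∀ i : Fin (𝓔.l + 1), 0 ≤ (𝓔.wtX i.succ - 𝓔.wtX i.castSucc) * δ i.succ :=
    fun i => mul_nonneg (diff_pos 𝓔 i).le (hδ _)
  obtain ⟨ha, hb⟩ := (add_eq_zero_iff_of_nonneg (mul_nonneg hw0.le (hδ 0)) (Finset.sum_nonneg fun i _ => hnn i)).1 h0
  have hj : δ j = 0 := by
    refine Fin.cases ?_ (fun i => ?_) j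
    · exact (mul_eq_zero.1 ha).resolve_left hw0.ne'
    · exact (mul_eq_zero.1 ((Finset.sum_eq_zero_iff_of_nonneg fun i _ => hnn i).1 hb i (Finset.mem_univ _))).resolve_left
        (diff_pos 𝓔 i).ne'
  exact_mod_cast (sub_eq_zero.1 hj).symm

variable {F : C} (𝓕 : ParSh.Str F)

theorem exists_cast (h : Set.range 𝓕.wt = Set.range 𝓔.wt) :
    ∃ hl : 𝓔.l = 𝓕.l, ∀ j, 𝓕.wt (Fin.cast (by rw [hl]) j) = 𝓔.wt j := by
  have hl : 𝓔.l = 𝓕.l := by
    have e := congrArg Set.ncard h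
    rw [Set.ncard_range_of_injective 𝓕.wt_strictMono.injective,
      Set.ncard_range_of_injective 𝓔.wt_strictMono.injective, Nat.card_fin, Nat.card_fin] at e
    omega
  refine ⟨hl, fun j => ?_⟩
  let g : Fin (𝓔.l + 1) → ℝ := fun j => 𝓕.wt (Fin.cast (by rw [hl]) j)
  have hg : StrictMono g := fun a b hab => 𝓕.wt_strictMono (by exact hab)
  have hr : Set.range g = Set.range 𝓔.wt := by
    rw [← h]
    exact (finCongr (show 𝓔.l + 1 = 𝓕.l + 1 by rw [hl])).surjective.range_comp 𝓕.wt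
  exact congrFun ((StrictMono.range_inj hg 𝓔.wt_strictMono).1 hr) j

theorem wtX_cast (hl : 𝓔.l = 𝓕.l) (hwt : ∀ j, 𝓕.wt (Fin.cast (by rw [hl]) j) = 𝓔.wt j) (j : Fin (𝓔.l + 2)) :
    𝓕.wtX (Fin.cast (by rw [hl]) j) = 𝓔.wtX j := by
  induction j using Fin.lastCases with
  | last => rw [Fin.cast_last, ParSh.Str.wtX_last, ParSh.Str.wtX_last]
  | cast i => rw [ParSh.Str.wtX_castSucc, ← hwt i, ← ParSh.Str.wtX_castSucc]; exact congrArg _ (Fin.ext rfl)

theorem parPoly_cast (hl : 𝓔.l = 𝓕.l) (hwt : ∀ j, 𝓕.wt (Fin.cast (by rw [hl]) j) = 𝓔.wt j)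
    (RX : Fin (𝓕.l + 2) → Polynomial ℚ) :
    W4swparbununimod.parPoly 𝓕 RX = W4swparbununimod.parPoly 𝓔 (fun j => RX (Fin.cast (by rw [hl]) j)) := by
  unfold W4swparbununimod.parPoly
  refine congrArg₂ (· + ·) (congrArg (fun i => W4swparbununimod.rpoly (RX i)) (Fin.ext (by simp [hl]))) ?_
  refine (Fintype.sum_equiv (finCongr (show 𝓔.l + 1 = 𝓕.l + 1 by rw [hl])) _ _ fun j => ?_).symm
  rw [show finCongr (show 𝓔.l + 1 = 𝓕.l + 1 by rw [hl]) j = Fin.cast (by rw [hl]) j from rfl, hwt j]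
  rfl

end comb

section atlem

variable {C : Type u} [Category.{v} C] [HasImages C] [HasBinaryCoproducts C] [HasInitial C] [InitialMonoClass C]
  {E : C} (𝓔 𝓕 : ParSh.Str E)

theorem at_wtX (j : Fin (𝓔.l + 2)) : 𝓔.at (𝓔.wtX j) = 𝓔.pieceX j := by
  induction j using Fin.lastCases with
  | last => rw [ParSh.Str.wtX_last, ParSh.Str.pieceX_last]; exact 𝓔.at_eq_bot (wt_lt_one' 𝓔)
  | cast j =>
    rw [ParSh.Str.wtX_castSucc, ParSh.Str.pieceX_castSucc]
    exact 𝓔.at_eq_piece j le_rfl fun i hi => 𝓔.wt_strictMono hi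

theorem at_congr (hl : 𝓔.l = 𝓕.l) (hwt : ∀ j, 𝓕.wt (Fin.cast (by rw [hl]) j) = 𝓔.wt j)
    (hp : ∀ j, 𝓕.pieceX (Fin.cast (by rw [hl]) j) = 𝓔.pieceX j) (a : ℝ) : 𝓔.at a = 𝓕.at a := by
  have hb : 𝓕.bot = 𝓔.bot := by
    have h := hp (Fin.last _)
    rwa [Fin.cast_last, ParSh.Str.pieceX_last, ParSh.Str.pieceX_last] at h
  have hpi : ∀ j : Fin (𝓔.l + 1), 𝓕.piece (Fin.cast (by rw [hl]) j) = 𝓔.piece j := fun j => by
    rw [← ParSh.Str.pieceX_castSucc, ← ParSh.Str.pieceX_castSucc, ← hp]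
    exact congrArg _ (Fin.ext rfl)
  refine le_antisymm (𝓔.at_le (fun j hj => ?_) (hb.symm.le.trans (𝓕.bot_le_at a)))
    (𝓕.at_le (fun j hj => ?_) (hb.le.trans (𝓔.bot_le_at a)))
  · rw [← hpi j]
    exact 𝓕.piece_le_at _ (by rw [hwt j]; exact hj)
  · obtain ⟨i, rfl⟩ := (finCongr (show 𝓔.l + 1 = 𝓕.l + 1 by rw [hl])).surjective j
    exact (hpi i).le.trans (𝓔.piece_le_at i (by rw [← hwt i]; exact hj))

end atlem

section scheme

variable {X : Scheme.{u}}

theorem coinduced_pieceX {E V : X.Modules} (𝓔 : ParSh.Str E) (q : E ⟶ V) [Epi q] (j : Fin (𝓔.l + 2)) :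
    (𝓔.coinduced q).pieceX j = imageSubobject ((𝓔.pieceX j).arrow ≫ q) := by
  refine Fin.lastCases ?_ (fun i => ?_) j
  · exact ((𝓔.coinduced q).pieceX_last).trans
      (congrArg (fun S : Subobject E => imageSubobject (S.arrow ≫ q)) 𝓔.pieceX_last.symm)
  · exact ((𝓔.coinduced q).pieceX_castSucc i).trans
      (congrArg (fun S : Subobject E => imageSubobject (S.arrow ≫ q)) (𝓔.pieceX_castSucc i).symm)

theorem isPure_of_iso {A B : X.Modules} (e : A ≅ B) {d : ℕ} (h : ShStab.IsPure X B d) : ShStab.IsPure X A d :=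
  fun G g hg => by
    haveI := hg
    exact h G (g ≫ e.hom) inferInstance

variable (k : Type u) [Field k] [X.Over (Spec (CommRingCat.of k))] [IsProper (X ↘ Spec (CommRingCat.of k))]
  {L : X.Modules}

/-- A submodule with the same Hilbert polynomial is everything. -/
theorem isIso_of_hilbPoly_eq (hL : CohB1.IsAmple L) {A B : X.Modules} (hA : Coh.IsCoh A) (hB : Coh.IsCoh B)
    (g : A ⟶ B) [Mono g] {P : Polynomial ℚ} (hPA : ShStab.IsHilbPoly k X L A P)
    (hPB : ShStab.IsHilbPoly k X L B P) : IsIso g := by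
  have hq := (polyLE_of_mono (k := k) hL hA hB g hPA hPB).2
  rw [sub_self] at hq
  have hz : IsZero (cokernel g) := by
    by_contra h0
    obtain ⟨N, hN⟩ := chi_pos k hL (H10Coh.isCoh_cokernel g hA.1 hB) h0
    have h1 : (1 : ℚ) ≤ (chi k L (cokernel g) N : ℚ) := by exact_mod_cast hN N le_rfl
    have h2 : (chi k L (cokernel g) N : ℚ) = (0 : Polynomial ℚ).eval (N : ℚ) := hq N
    rw [Polynomial.eval_zero] at h2
    linarith
  haveI : Epi g := Preadditive.epi_of_cokernel_zero (hz.eq_of_tgt _ _)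
  exact isIso_of_mono_of_epi g

theorem le_of_hilbPoly_eq (hL : CohB1.IsAmple L) {V : X.Modules} {A B : Subobject V} (h : A ≤ B)
    (hA : Coh.IsCoh (A : X.Modules)) (hB : Coh.IsCoh (B : X.Modules)) {P : Polynomial ℚ}
    (hPA : ShStab.IsHilbPoly k X L (A : X.Modules) P) (hPB : ShStab.IsHilbPoly k X L (B : X.Modules) P) : A = B := by
  haveI := isIso_of_hilbPoly_eq k hL hA hB (Subobject.ofLE A B h) hPA hPB
  exact le_antisymm h (Subobject.le_of_comm (inv (Subobject.ofLE A B h))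
    (by rw [IsIso.inv_comp_eq, Subobject.ofLE_arrow]))

/-- The image of a submodule in a quotient. -/
theorem image_piece (hL : CohB1.IsAmple L) {K E V F : X.Modules} (hE : Coh.IsCoh E) (j : K ⟶ E) [Mono j]
    (f : E ⟶ F) (w : j ≫ f = 0) (hex : (ShortComplex.mk j f w).Exact) (q : E ⟶ V) (u : V ⟶ F) [Mono u]
    (hqu : q ≫ u = f) (hK : Coh.IsCoh K) (S : Subobject E) (hS : Coh.IsCoh (S : X.Modules))
    {P Q : Polynomial ℚ} (hP : ShStab.IsHilbPoly k X L (S : X.Modules) P)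
    (hQ : ShStab.IsHilbPoly k X L (((Subobject.pullback j).obj S : Subobject K) : X.Modules) Q) :
    Coh.IsCoh ((imageSubobject (S.arrow ≫ q) : Subobject V) : X.Modules) ∧
      ShStab.IsHilbPoly k X L ((imageSubobject (S.arrow ≫ q) : Subobject V) : X.Modules) (P - Q) := by
  have sq := Subobject.isPullback j S
  have hKS := isCoh_pullback_sub k hL hE hK S hS j
  let g := factorThruImageSubobject (S.arrow ≫ q)
  let π := Subobject.pullbackπ j S
  haveI : Mono π := sq.mono_fst_of_mono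
  have hjq : j ≫ q = 0 := by rw [← cancel_mono u, Category.assoc, hqu, w, zero_comp]
  have hπ : π ≫ g = 0 := by
    rw [← cancel_mono (imageSubobject (S.arrow ≫ q)).arrow, Category.assoc, imageSubobject_arrow_comp, zero_comp,
      ← Category.assoc, sq.w, Category.assoc, hjq, comp_zero]
  have hS' : (ShortComplex.mk π g hπ).ShortExact :=
    { exact := ShortComplex.exact_of_f_is_kernel _ (KernelFork.IsLimit.ofι' _ _ fun {A} t ht => by
        have h1 : (t ≫ S.arrow) ≫ f = 0 := by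
          have h2 : t ≫ S.arrow ≫ q = 0 :=
            (congrArg (t ≫ ·) (imageSubobject_arrow_comp (S.arrow ≫ q))).symm.trans
              ((Category.assoc _ _ _).symm.trans ((congrArg (· ≫ _) ht).trans zero_comp))
          rw [← hqu, ← Category.assoc, Category.assoc t S.arrow q, h2, zero_comp]
        haveI : Mono (ShortComplex.mk j f w).f := ‹Mono j›
        exact ⟨sq.lift t (hex.lift (t ≫ S.arrow) h1) (hex.lift_f (t ≫ S.arrow) h1).symm, sq.lift_fst _ _ _⟩) }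
  have hC : Coh.IsCoh ((imageSubobject (S.arrow ≫ q) : Subobject V) : X.Modules) :=
    H10Coh.isCoh_of_iso ((cokernelIsCokernel π).coconePointUniqueUpToIso hS'.gIsCokernel)
      (H10Coh.isCoh_cokernel π hKS.1 hS)
  refine ⟨hC, fun m => ?_⟩
  have e : chi k L (S : X.Modules) m = chi k L (((Subobject.pullback j).obj S : Subobject K) : X.Modules) m +
      chi k L ((imageSubobject (S.arrow ≫ q) : Subobject V) : X.Modules) m := chi_add hL.1 hS' hKS hS hC m
  rw [Polynomial.eval_sub, ← hP m, ← hQ m]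
  simp only [chi] at e
  rw [e]
  push_cast
  ring

end scheme

end Groth.Agent.H25Euler
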